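import Cfsg.Agent.Lib.HSType.CoreBase
import Cfsg.Agent.Lib.Signalizer.SFT.Main
import Cfsg.Agent.Lib.OddChar.OddTheorem
import Cfsg.Agent.Lib.Solvable.Basic

/-!
The cores form a signalizer functor on the pure elementary abelian subgroup of order sixteen. The normaliser of
the completion holds the centraliser of every involution fused to the central one, and such an involution is
moved inside it only by its own elements.
-/

set_option autoImplicit false
set_option linter.style.haveILetI false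
set_option linter.unusedSectionVars false

namespace Cfsg.Agent.HSType

open Subgroup
open Cfsg.Agent.ClosedAbelian (TwoEl core odd_orderOf_of_mem)
open Cfsg.Agent.J2Core (odd_of_le conj_mem_normalizer normalizer_inf_le)

universe u

variable {G : Type u} [Group G] [Finite G] {f : ℕ → G}

/-- An element of odd order of the core times a 2-subgroup of the centraliser is in the core. -/
theorem mem_core_of_sup {a y : G} {P : Subgroup G} (hP : IsPGroup 2 P) (hPC : P ≤ centralizer ({a} : Set G))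
    (hy : y ∈ Kf a ⊔ P) (ho : Odd (orderOf y)) : y ∈ Kf a := by
  obtain ⟨k, hk, v, hv, rfl⟩ := (SolvBasic.mem_sup_iff_of_le_normalizer
    (hPC.trans (ClosedAbelian.core_normalized _))).1 hy
  set C := centralizer ({a} : Set G)
  set π := QuotientGroup.mk' (Cfsg.oddCore ↥C)
  have hone : ∀ x (hx : x ∈ C), π ⟨x, hx⟩ = 1 ↔ x ∈ Kf a := fun x hx => by
    rw [QuotientGroup.mk'_apply, QuotientGroup.eq_one_iff]
    exact ⟨fun h => ⟨_, h, rfl⟩, fun ⟨w, hw, e⟩ => Subtype.ext (a1 := w) (a2 := ⟨x, hx⟩) e ▸ hw⟩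
  have hkC := ClosedAbelian.core_le _ hk
  have hvC := hPC hv
  have hyC : k * v ∈ C := mul_mem hkC hvC
  have e : π ⟨k * v, hyC⟩ = π ⟨v, hvC⟩ := by
    rw [show (⟨k * v, hyC⟩ : ↥C) = ⟨k, hkC⟩ * ⟨v, hvC⟩ from rfl, map_mul, (hone k hkC).2 hk, one_mul]
  refine (hone _ hyC).1 (TwoEl.eq_one_of_odd ?_ ?_)
  · obtain ⟨j, hj⟩ := TwoEl.of_group hP hv
    exact ⟨j, by rw [e, ← map_pow, show (⟨v, hvC⟩ : ↥C) ^ 2 ^ j = 1 from Subtype.ext hj, map_one]⟩
  · exact ho.of_dvd_nat ((orderOf_map_dvd π _).trans (by rw [Subgroup.orderOf_mk]))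

/-- The completion of the cores. -/
def Fused.Wst (F : Fused f) : Subgroup G := ⨆ a : {a : G // a ∈ F.A1 ∧ a ≠ 1}, Kf a.1

/-- The normaliser of the completion. -/
def Fused.M (F : Fused f) : Subgroup G := normalizer (F.Wst : Set G)

namespace Fused

variable (F : Fused f) (Cn : Cent f)
include F Cn

/-- Balance at the central involution. -/
theorem lemR_z {l : ℕ} (hl : l < 512) (h2 : mulN l l = 0) {X : Subgroup G} (hX : ¬ 2 ∣ Nat.card X)
    (hXC : X ≤ centralizer ({f 256} : Set G) ⊓ centralizer ({f l} : Set G))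
    (hn : centralizer ({f 256} : Set G) ⊓ centralizer ({f l} : Set G) ≤ normalizer (X : Set G)) :
    X ≤ Kf (f 256) := by
  intro x hx
  by_contra hxK
  obtain ⟨hxz, hxl⟩ := mem_inf.1 (hXC hx)
  have h := allB_spec R_witness hl
  rw [show sqB l = true by rw [sqB, Nat.beq_eq]; exact h2, Bool.not_true, Bool.false_or, Bool.not_eq_true'] at h
  obtain ⟨r, hr, hr'⟩ := allB_not h
  simp only [Bool.or_eq_false_iff, Bool.not_eq_false'] at hr'
  obtain ⟨⟨hrR, hrl⟩, hrZ⟩ := hr'
  have hrN : f r ∈ normalizer (X : Set G) := hn (mem_inf.2 ⟨F.emb.range_le_cz (F.emb.apply_mem hr),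
    mem_centralizer_singleton_iff.2 ((F.emb.commute_iff hr hl).2 (Nat.eq_of_beq_eq_true hrl))⟩)
  have hyX : x * f r * x⁻¹ * (f r)⁻¹ ∈ X := by
    rw [show x * f r * x⁻¹ * (f r)⁻¹ = x * (f r * x⁻¹ * (f r)⁻¹) by group]
    exact mul_mem hx (conj_mem_normalizer hrN (inv_mem hx))
  have hrR' : f r ∈ Cn.emb.sub inR subR := (Cn.emb.f_mem_sub hr).2 hrR
  have hy : x * f r * x⁻¹ * (f r)⁻¹ ∈ Kf (f 256) ⊔ Cn.emb.sub inR subR :=
    mul_mem (Cn.normR x hxz _ hrR') (inv_mem (mem_sup_right hrR'))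
  have hyK := mem_core_of_sup (Cn.emb.isPGroup.to_le Cn.emb.sub_le)
    (Cn.emb.sub_le.trans Cn.emb.range_le_cz) hy (odd_orderOf_of_mem hX hyX)
  have := (Cn.emb.f_mem_sub hr).1 (Cn.fpf x hxz (odd_orderOf_of_mem hX hx) hxK _ hrR' hyK)
  rw [hrZ] at this
  exact Bool.false_ne_true this

/-- Balance at an involution fused to the central one. -/
theorem lemR {a b : G} (ha : ∃ g : G, g * f 256 * g⁻¹ = a) (hb : b * b = 1) (hab : b * a = a * b)
    {X : Subgroup G} (hX : ¬ 2 ∣ Nat.card X)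
    (hXC : X ≤ centralizer ({a} : Set G) ⊓ centralizer ({b} : Set G))
    (hn : centralizer ({a} : Set G) ⊓ centralizer ({b} : Set G) ≤ normalizer (X : Set G)) : X ≤ Kf a := by
  obtain ⟨g, hg⟩ := ha
  have hz : g⁻¹ * b * g ∈ centralizer ({f 256} : Set G) := by
    rw [mem_centralizer_singleton_iff]
    have := comm_conj g⁻¹ hab
    rw [inv_inv, ← hg, show g⁻¹ * (g * f 256 * g⁻¹) * g = f 256 by group] at this
    exact this
  obtain ⟨c, hc, hcle⟩ := F.conj_cz (ClosedAbelian.twoEl_of_sq (x := g⁻¹ * b * g) (by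
    rw [show g⁻¹ * b * g * (g⁻¹ * b * g) = g⁻¹ * (b * b) * g by group, hb]; group)).isPGroup (zpowers_le.2 hz)
  obtain ⟨l, hl, el⟩ := hcle _ (mem_zpowers _)
  set h := c * g⁻¹
  have hha : h * a * h⁻¹ = f 256 := by
    rw [← hg, show h * (g * f 256 * g⁻¹) * h⁻¹ = c * f 256 * c⁻¹ by simp [h, mul_assoc],
      mem_centralizer_singleton_iff.1 hc, mul_inv_cancel_right]
  have hhb : h * b * h⁻¹ = f l := by rw [el]; simp [h, mul_assoc]
  have hl2 : mulN l l = 0 := (F.emb.sq_one_iff hl).1 (by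
    rw [← hhb, show h * b * h⁻¹ * (h * b * h⁻¹) = h * (b * b) * h⁻¹ by group, hb]; group)
  set φ := (MulAut.conj h).toMonoidHom
  have hcent : centralizer ({f 256} : Set G) ⊓ centralizer ({f l} : Set G) =
      (centralizer ({a} : Set G) ⊓ centralizer ({b} : Set G)).map φ := by
    rw [map_inf _ _ _ (MulAut.conj h).injective, cent_map, cent_map, hha, hhb]
  have hle := F.lemR_z Cn hl hl2 (X := X.map φ) (by rwa [card_map_of_injective (MulAut.conj h).injective])
    (hcent ▸ map_mono hXC) (hcent ▸ (map_mono hn).trans (le_normalizer_map _))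
  intro x hx
  have h1 := conj_Kf (g := h⁻¹) (hle ⟨x, hx, rfl⟩)
  rwa [← hha, show h⁻¹ * (h * a * h⁻¹) * h⁻¹⁻¹ = a by group,
    show h⁻¹ * φ x * h⁻¹⁻¹ = x by simp [φ, mul_assoc]] at h1

theorem A1_conj {a : G} (ha : a ∈ F.A1) (ha1 : a ≠ 1) : ∃ g : G, g * f 256 * g⁻¹ = a :=
  ((F.A1_mem ha).2.2).resolve_left ha1

theorem bal_functor : Cfsg.IsSolvableSignalizerFunctor 2 F.A1 (fun a => Kf a) := by
  refine ⟨⟨fun a _ _ => ClosedAbelian.core_le _, fun a _ _ => ClosedAbelian.core_odd _,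
    fun a ha _ b hb x hx => conj_mem_normalizer (F.A1_norm_Kf ha hb) hx,
    fun a ha _ b hb hb1 => le_inf ?_ inf_le_right |>.trans inf_le_left⟩, fun a _ _ => ?_⟩
  · refine F.lemR Cn (F.A1_conj Cn hb hb1) (F.A1_mem ha).1 ((F.A1_mem ha).2.1 _ hb)
      (odd_of_le (ClosedAbelian.core_odd _) inf_le_left)
      (le_inf inf_le_right (inf_le_left.trans (ClosedAbelian.core_le _))) ?_
    exact fun x hx => normalizer_inf_le (ClosedAbelian.core_normalized _ (mem_inf.1 hx).2)
      (le_normalizer (mem_inf.1 hx).1)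
  · refine OddChar.oddSolvable _ ?_
    rw [← Nat.not_even_iff_odd, even_iff_two_dvd]
    exact ClosedAbelian.core_odd _

theorem Wst_props : ¬ 2 ∣ Nat.card F.Wst ∧ F.A1 ≤ normalizer (F.Wst : Set G) ∧
    ∀ a ∈ F.A1, a ≠ 1 → F.Wst ⊓ centralizer ({a} : Set G) = Kf a := by
  haveI : Fact (Nat.Prime 2) := ⟨Nat.prime_two⟩
  obtain ⟨h1, h2⟩ := Signalizer.SFT.iSup_props F.A1_ea (by rw [F.card_A1]; norm_num) (F.bal_functor Cn)
  exact ⟨h1.2.1, Signalizer.family_normalizer h1, h2⟩

omit Cn in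
theorem Kf_le_Wst {a : G} (ha : a ∈ F.A1) (ha1 : a ≠ 1) : Kf a ≤ F.Wst :=
  le_iSup (fun b : {b : G // b ∈ F.A1 ∧ b ≠ 1} => Kf b.1) ⟨a, ha, ha1⟩

/-- The core at an involution centralising a four group of the subgroup is in the completion. -/
theorem Kf_cent_le {v : G} (hv : v * v = 1) (h4 : 4 ≤ Nat.card ↥(F.A1 ⊓ centralizer ({v} : Set G))) :
    Kf v ≤ F.Wst := by
  haveI : Fact (Nat.Prime 2) := ⟨Nat.prime_two⟩
  refine Signalizer.le_of_centralizer_le (Signalizer.ea_mono F.A1_ea inf_le_left) (by norm_num; exact h4)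
    (inf_le_right.trans (ClosedAbelian.core_normalized _)) (ClosedAbelian.core_odd _) fun e he he1 => ?_
  obtain ⟨heA, hev⟩ := mem_inf.1 he
  refine le_trans ?_ (F.Kf_le_Wst heA he1)
  refine F.lemR Cn (F.A1_conj Cn heA he1) hv (mem_centralizer_singleton_iff.1 hev).symm
    (odd_of_le (ClosedAbelian.core_odd _) inf_le_left)
    (le_inf inf_le_right (inf_le_left.trans (ClosedAbelian.core_le _))) ?_
  exact fun x hx => normalizer_inf_le (ClosedAbelian.core_normalized _ (mem_inf.1 hx).2)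
    (le_normalizer (mem_inf.1 hx).1)

/-- An element carrying the cores of a four group into the completion normalises it. -/
theorem mem_M {g : G} {E : Subgroup G} (hE : E ≤ F.A1) (h4 : 4 ≤ Nat.card E)
    (h : ∀ e ∈ E, e ≠ 1 → Kf (g * e * g⁻¹) ≤ F.Wst) : g ∈ F.M := by
  haveI : Fact (Nat.Prime 2) := ⟨Nat.prime_two⟩
  obtain ⟨hodd, hn, hC⟩ := F.Wst_props Cn
  have hle : F.Wst ≤ F.Wst.comap (MulAut.conj g).toMonoidHom := by
    refine Signalizer.le_of_centralizer_le (Signalizer.ea_mono F.A1_ea hE) (by norm_num; exact h4)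
      (hE.trans hn) hodd fun e he he1 x hx => ?_
    rw [hC e (hE he) he1] at hx
    exact h e he he1 (conj_Kf hx)
  exact SEBrick.mem_normalizer_of fun x hx => hle hx

theorem cz_le : centralizer ({f 256} : Set G) ≤ F.M := by
  obtain ⟨s16, s6, s2⟩ := four_sub
  obtain ⟨t, c16, c6, c2⟩ := four_table
  have key : ∀ l, l < 512 → ∀ hs : subB (fourP l) = true, (∀ a, a < 512 → fourP l a = true → inA1 a = true) →
      (List.range 512).countP (fourP l) = 4 →
      centralizer ({f 256} : Set G) ⊓ centralizer ({f l} : Set G) ≤ F.M := by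
    intro l hl hs hA hc g hg
    obtain ⟨hgz, hgl⟩ := mem_inf.1 hg
    have hgz' := mem_centralizer_singleton_iff.1 hgz
    have hgl' := mem_centralizer_singleton_iff.1 hgl
    refine F.mem_M Cn (E := F.emb.sub (fourP l) hs) ?_ ?_ ?_
    · rintro _ ⟨a, ha, pa, rfl⟩
      exact (F.emb.f_mem_sub ha).2 (hA a ha pa)
    · rw [F.emb.card_subset _ F.emb.sub_le (fourP l) fun a ha => F.emb.f_mem_sub ha, hc]
    · rintro _ ⟨a, ha, pa, rfl⟩ ha1
      have hfix : g * f a = f a * g := by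
        simp only [fourP, List.contains_iff_mem, List.mem_cons, List.not_mem_nil, or_false] at pa
        rcases pa with rfl | rfl | rfl | rfl
        · exact absurd F.emb.one ha1
        · exact hgz'
        · exact hgl'
        · rw [F.emb.hom 256 l (by omega) hl]
          exact ((show Commute g (f 256) from hgz').mul_right hgl').eq
      rw [hfix, mul_inv_cancel_right]
      exact F.Kf_le_Wst ((F.emb.f_mem_sub ha).2 (hA a ha pa)) ha1
  have ht : ∀ a, a < 512 → (fourP 16 a = true → inA1 a = true) ∧ (fourP 6 a = true → inA1 a = true) ∧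
      (fourP 2 a = true → inA1 a = true) := fun a ha => by
    have h := allB_spec t ha
    revert h
    cases fourP 16 a <;> cases fourP 6 a <;> cases fourP 2 a <;> cases inA1 a <;> simp
  refine Cn.gen.trans (sup_le (sup_le (sup_le ?_ ?_) ?_) ?_)
  · exact (F.Kf_le_Wst F.z_mem F.z_ne).trans le_normalizer
  · exact key 16 (by omega) s16 (fun a ha => (ht a ha).1) c16
  · exact key 6 (by omega) s6 (fun a ha => (ht a ha).2.1) c6
  · exact key 2 (by omega) s2 (fun a ha => (ht a ha).2.2) c2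

theorem range_le_M : F.emb.range ≤ F.M := F.emb.range_le_cz.trans (F.cz_le Cn)

/-- An element taking an involution centralising a four group of the subgroup to the central one. -/
theorem mover_mem {g x : G} (e : g * x * g⁻¹ = f 256)
    (h4 : 4 ≤ Nat.card ↥(F.A1 ⊓ centralizer ({x} : Set G))) : g ∈ F.M := by
  set E := F.A1 ⊓ centralizer ({x} : Set G)
  set P := E.map (MulAut.conj g).toMonoidHom
  have hP : IsPGroup 2 P := ((F.emb.isPGroup.to_le (inf_le_left.trans F.A1_le))).map _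
  have hPC : P ≤ centralizer ({f 256} : Set G) := by
    rw [← e, ← cent_map]
    exact map_mono inf_le_right
  obtain ⟨c, hc, hcle⟩ := F.conj_cz hP hPC
  have hcM := F.cz_le Cn hc
  suffices h : c * g ∈ F.M by
    have := mul_mem (inv_mem hcM) h
    rwa [inv_mul_cancel_left] at this
  refine F.mem_M Cn (E := E) inf_le_left h4 fun a ha ha1 => ?_
  obtain ⟨l, hl, el⟩ := hcle (g * a * g⁻¹) ⟨a, ha, rfl⟩
  have hconj : c * g * a * (c * g)⁻¹ = f l := by rw [el]; group
  obtain ⟨k, hk⟩ := F.A1_conj Cn (mem_inf.1 ha).1 ha1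
  have hlz := F.z_label hl (g := c * g * k) (by rw [← hconj, ← hk]; group)
  rw [hconj]
  refine F.Kf_cent_le Cn ((F.emb.sq_one_iff hl).2 (list_facts (Or.inl hlz)).2.1) ?_
  rw [F.card_A1_cent hl]
  exact Nat.le_of_ble_eq_true (List.all_eq_true.1 a1_centralises.1 l hlz)

/-- An involution of the normaliser fused to the central one is so inside it. -/
theorem exists_M_conj {t : G} (ht : t ∈ F.M) (hz : ∃ g : G, g * f 256 * g⁻¹ = t) :
    ∃ m ∈ F.M, m * t * m⁻¹ = f 256 := by
  obtain ⟨g, hg⟩ := hz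
  have htwo : t * t = 1 := by
    rw [← hg, show g * f 256 * g⁻¹ * (g * f 256 * g⁻¹) = g * (f 256 * f 256) * g⁻¹ by group, F.z_sq]; group
  obtain ⟨c, hc, hcle⟩ := conj_into F.emb.isPGroup (F.range_le_M Cn)
    (fun h => F.odd (h.trans (relIndex_dvd_index_of_le (F.range_le_M Cn))))
    (ClosedAbelian.twoEl_of_sq htwo).isPGroup (zpowers_le.2 ht)
  obtain ⟨l, hl, el⟩ := hcle t (mem_zpowers _)
  have hlz := F.z_label hl (g := c * g) (by rw [el, ← hg]; group)
  obtain ⟨h, hh⟩ := F.z_conj l hlz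
  refine ⟨h⁻¹ * c, mul_mem (F.mover_mem Cn (x := f l) ?_ ?_) hc, ?_⟩
  · rw [← hh]; group
  · rw [F.card_A1_cent hl]
    exact Nat.le_of_ble_eq_true (List.all_eq_true.1 a1_centralises.1 l hlz)
  · rw [show h⁻¹ * c * t * (h⁻¹ * c)⁻¹ = h⁻¹ * (c * t * c⁻¹) * h by group, ← el, ← hh]; group

/-- The normaliser controls the involutions fused to the central one. -/
theorem mem_of_moved {g t : G} (ht : t ∈ F.M) (hz : ∃ h : G, h * f 256 * h⁻¹ = t)
    (hgt : g * t * g⁻¹ ∈ F.M) : g ∈ F.M := by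
  obtain ⟨m, hm, em⟩ := F.exists_M_conj Cn ht hz
  obtain ⟨h, hh⟩ := hz
  obtain ⟨n, hn, en⟩ := F.exists_M_conj Cn hgt ⟨g * h, by rw [← hh]; group⟩
  have h1 : n * g * m⁻¹ ∈ F.M := F.cz_le Cn (mem_centralizer_singleton_iff.2 (by
    refine mul_inv_eq_iff_eq_mul.1 ?_
    rw [show n * g * m⁻¹ * f 256 * (n * g * m⁻¹)⁻¹ = n * (g * (m⁻¹ * f 256 * m) * g⁻¹) * n⁻¹ by group,
      show m⁻¹ * f 256 * m = t by rw [← em]; group, en]))
  rw [show g = n⁻¹ * (n * g * m⁻¹) * m by group]
  exact mul_mem (mul_mem (inv_mem hn) h1) hm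

theorem normalizer_A_le : normalizer ((F.emb.sub inA subA : Subgroup G) : Set G) ≤ F.M := by
  intro n hn
  have hz : f 256 ∈ F.emb.sub inA subA := (F.emb.f_mem_sub (by omega)).2 rfl
  exact F.mem_of_moved Cn (F.range_le_M Cn (F.emb.apply_mem (by omega))) ⟨1, by group⟩
    (F.range_le_M Cn (F.emb.sub_le (conj_mem_normalizer hn hz)))

end Fused

end Cfsg.Agent.HSType
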