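import Cfsg.Agent.Lib.HSType.Interface
import Cfsg.Agent.Lib.J2Core.Gen

/-!
Groundwork for the vanishing of the core: cores of centralisers, Sylow subgroups of the subgroups holding the
image, and the finite facts about the labels.
-/

set_option autoImplicit false
set_option linter.style.haveILetI false
set_option linter.unusedSectionVars false

namespace Cfsg.Agent.HSType

open Subgroup
open Cfsg.Agent.ClosedAbelian (TwoEl core odd_orderOf_of_mem)
open Cfsg.Agent.J2Core (odd_of_le conj_mem_normalizer exists_root)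

universe u

/-- The odd core of the centraliser of an element. -/
abbrev Kf {G : Type u} [Group G] (a : G) : Subgroup G := core (centralizer ({a} : Set G))

variable {G : Type u} [Group G]

theorem comm_conj (g : G) {t w : G} (h : t * w = w * t) :
    g * t * g⁻¹ * (g * w * g⁻¹) = g * w * g⁻¹ * (g * t * g⁻¹) := by
  calc g * t * g⁻¹ * (g * w * g⁻¹) = g * (t * w) * g⁻¹ := by group
    _ = g * (w * t) * g⁻¹ := by rw [h]
    _ = g * w * g⁻¹ * (g * t * g⁻¹) := by group

theorem cent_map (g a : G) :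
    (centralizer ({a} : Set G)).map (MulAut.conj g).toMonoidHom = centralizer ({g * a * g⁻¹} : Set G) := by
  ext x
  simp only [mem_map, mem_centralizer_singleton_iff, MulEquiv.coe_toMonoidHom, MulAut.conj_apply]
  constructor
  · rintro ⟨y, hy, rfl⟩
    exact comm_conj g hy
  · intro h
    refine ⟨g⁻¹ * x * g, ?_, by group⟩
    have h1 := comm_conj g⁻¹ h
    rwa [inv_inv, show g⁻¹ * (g * a * g⁻¹) * g = a by group] at h1

variable [Finite G]

/-- The cores of the centralisers follow conjugation. -/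
theorem conj_Kf {g a x : G} (hx : x ∈ Kf a) : g * x * g⁻¹ ∈ Kf (g * a * g⁻¹) := by
  have h := ClosedAbelian.conj_core_le (centralizer ({a} : Set G)) g
  rw [cent_map] at h
  exact h ⟨x, hx, rfl⟩

theorem Kf_normalized {a g : G} (h : g * a = a * g) : g ∈ normalizer (Kf a : Set G) :=
  ClosedAbelian.core_normalized _ (mem_centralizer_singleton_iff.2 h)

/-- A 2-subgroup of odd index in a subgroup receives a conjugate of every 2-subgroup of it. -/
theorem conj_into {A X P : Subgroup G} (hA : IsPGroup 2 A) (hAX : A ≤ X) (hodd : ¬ 2 ∣ A.relIndex X)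
    (hP : IsPGroup 2 P) (hPX : P ≤ X) : ∃ c ∈ X, ∀ x ∈ P, c * x * c⁻¹ ∈ A := by
  haveI : Fact (Nat.Prime 2) := ⟨Nat.prime_two⟩
  obtain ⟨c, hc, T, hT, hAT, hTX, hle⟩ := ClosedAbelian.exists_conj_over hA hAX hP hPX
  refine ⟨c, hc, fun x hx => ?_⟩
  suffices h : T ≤ A from h (hle x hx)
  obtain ⟨k, hk⟩ := hT.index (A.subgroupOf T)
  have hdvd : A.relIndex T ∣ A.relIndex X :=
    Dvd.intro _ (relIndex_mul_relIndex A T X hAT hTX)
  have hk0 : k = 0 := by
    by_contra h
    refine hodd (dvd_trans ?_ hdvd)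
    show 2 ∣ (A.subgroupOf T).index
    rw [hk]
    exact dvd_pow_self 2 h
  rw [hk0, pow_zero] at hk
  exact relIndex_eq_one.1 hk

/-- Two involutions in a coset of an odd subgroup normalised by one of them are conjugate under it. -/
theorem invol_shift {K : Subgroup G} (hK : ¬ 2 ∣ Nat.card K) {t k : G} (ht : t * t = 1) (hk : k ∈ K)
    (hy : k * t * (k * t) = 1) : ∃ s ∈ K, s * t * s⁻¹ = k * t := by
  obtain ⟨s, hs, hss, -⟩ := exists_root (odd_orderOf_of_mem hK hk)
  have hti : t⁻¹ = t := inv_eq_of_mul_eq_one_right ht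
  have h1 : t * k * t⁻¹ = k⁻¹ := by
    rw [hti]
    refine eq_inv_of_mul_eq_one_right ?_
    rw [show k * (t * k * t) = k * t * (k * t) by group, hy]
  obtain ⟨i, rfl⟩ := mem_zpowers_iff.1 hs
  have h2 : t * k ^ i * t⁻¹ = (k ^ i)⁻¹ := by
    rw [← MulAut.conj_apply, map_zpow, MulAut.conj_apply, h1, inv_zpow]
  have h3 : t * (k ^ i)⁻¹ = k ^ i * t := by
    rw [← h2, hti]
    calc t * (t * k ^ i * t) = t * t * (k ^ i * t) := by group
      _ = k ^ i * t := by rw [ht, one_mul]
  exact ⟨k ^ i, zpow_mem hk i, by rw [mul_assoc, h3, ← mul_assoc, hss]⟩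

/-! ### The finite facts -/

/-- The labels of the elementary abelian subgroup of order sixteen with all involutions fused to `z`. -/
def inA1 (a : ℕ) : Bool := [0, 2, 6, 7, 16, 18, 22, 23, 256, 258, 262, 263, 272, 274, 278, 279].contains a

theorem subA1 : subB inA1 = true := by decide +kernel

theorem A1_table : allB (fun a => !inA1 a || (sqB a && (Nat.beq a 0 || zList.contains a) &&
    allB (fun b => !inA1 b || commB a b) 512)) 512 = true := by decide +kernel

theorem A1_count : ((List.range 512).countP inA1) = 16 ∧ inA1 256 = true ∧ inA1 16 = true ∧ inA1 6 = true ∧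
    inA1 2 = true := by decide +kernel

/-- The labels of a four group through the central involution. -/
def fourP (l a : ℕ) : Bool := [0, 256, l, mulN 256 l].contains a

theorem four_sub : subB (fourP 16) = true ∧ subB (fourP 6) = true ∧ subB (fourP 2) = true := by decide +kernel

theorem four_table : allB (fun a => (!fourP 16 a || inA1 a) && (!fourP 6 a || inA1 a) && (!fourP 2 a || inA1 a))
    512 = true ∧ (List.range 512).countP (fourP 16) = 4 ∧ (List.range 512).countP (fourP 6) = 4 ∧
    (List.range 512).countP (fourP 2) = 4 := by decide +kernel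

/-- The number of labels of the elementary abelian subgroup commuting with a label. -/
def a1Count (l : ℕ) : ℕ := (List.range 512).countP fun a => inA1 a && commB a l

theorem a1_centralises : zList.all (fun l => Nat.ble 4 (a1Count l)) = true ∧ 4 ≤ a1Count 14 := by
  decide +kernel

theorem R_witness : allB (fun l => !sqB l || !allB (fun r => !inR r || !commB r l || inZR r) 512) 512 = true := by
  decide +kernel

theorem z_center : allB (fun a => commB a 256) 512 = true ∧ sqB 256 = true := by decide +kernel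

theorem b_count : bList.all (fun l => Nat.ble (centCount l) 64) = true ∧ centCount 14 = 64 := by decide +kernel

theorem lists_lt : (zList ++ bList).all (fun l => Nat.blt l 512 && sqB l && !Nat.beq l 0) = true ∧
    zList.all (fun l => !bList.contains l) = true := by decide +kernel

/-! ### The setting -/

theorem allB_not {p : ℕ → Bool} : ∀ {n : ℕ}, allB p n = false → ∃ k, k < n ∧ p k = false
  | 0, h => by simp [allB] at h
  | n + 1, h => by
    have h' : (p n && allB p n) = false := h
    rw [Bool.and_eq_false_iff] at h'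
    rcases h' with h' | h'
    · exact ⟨n, by omega, h'⟩
    · obtain ⟨k, hk, e⟩ := allB_not h'
      exact ⟨k, by omega, e⟩

theorem list_facts {l : ℕ} (hl : l ∈ zList ∨ l ∈ bList) : l < 512 ∧ mulN l l = 0 ∧ l ≠ 0 := by
  have h := List.all_eq_true.1 lists_lt.1 l (List.mem_append.2 hl)
  rw [Bool.and_eq_true, Bool.and_eq_true, Nat.blt_eq, sqB, Nat.beq_eq, Bool.not_eq_true'] at h
  exact ⟨h.1.1, h.1.2, fun e => by rw [e] at h; simp at h⟩

variable {f : ℕ → G}

theorem Emb.mem_sub {E : Emb f} {p : ℕ → Bool} {hp : subB p = true} {g : G} :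
    g ∈ E.sub p hp ↔ ∃ a, a < 512 ∧ p a = true ∧ f a = g := Iff.rfl

theorem Emb.sub_le (E : Emb f) {p : ℕ → Bool} {hp : subB p = true} : E.sub p hp ≤ E.range := by
  rintro _ ⟨a, ha, -, rfl⟩
  exact E.apply_mem ha

theorem Emb.f_mem_sub (E : Emb f) {p : ℕ → Bool} {hp : subB p = true} {a : ℕ} (ha : a < 512) :
    f a ∈ E.sub p hp ↔ p a = true :=
  ⟨fun ⟨b, hb, pb, e⟩ => E.inj b a hb ha e ▸ pb, fun h => ⟨a, ha, h, rfl⟩⟩

theorem Emb.isPGroup (E : Emb f) : IsPGroup 2 E.range :=
  IsPGroup.of_card (n := 9) (by rw [E.card_range]; norm_num)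

theorem Emb.range_le_cz (E : Emb f) : E.range ≤ centralizer ({f 256} : Set G) := by
  rintro _ ⟨a, ha, rfl⟩
  rw [mem_centralizer_singleton_iff, E.commute_iff ha (by omega)]
  exact Nat.eq_of_beq_eq_true (allB_spec z_center.1 ha)

theorem Emb.twoEl (E : Emb f) {a : ℕ} (ha : a < 512) : TwoEl (f a) :=
  TwoEl.of_group E.isPGroup (E.apply_mem ha)

namespace Fused

variable (F : Fused f)
include F

/-- The elementary abelian subgroup of order sixteen. -/
def A1 : Subgroup G := F.emb.sub inA1 subA1

theorem A1_le : F.A1 ≤ F.emb.range := F.emb.sub_le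

theorem A1_mem {x : G} (hx : x ∈ F.A1) :
    x * x = 1 ∧ (∀ y ∈ F.A1, x * y = y * x) ∧ (x = 1 ∨ ∃ g : G, g * f 256 * g⁻¹ = x) := by
  obtain ⟨a, ha, pa, rfl⟩ := hx
  have h := allB_spec A1_table ha
  rw [pa, Bool.not_true, Bool.false_or, Bool.and_eq_true, Bool.and_eq_true] at h
  obtain ⟨⟨h1, h2⟩, h3⟩ := h
  refine ⟨(F.emb.sq_one_iff ha).2 (Nat.eq_of_beq_eq_true h1), ?_, ?_⟩
  · rintro _ ⟨b, hb, pb, rfl⟩
    have h4 := allB_spec h3 hb
    rw [pb, Bool.not_true, Bool.false_or] at h4
    exact (F.emb.commute_iff ha hb).2 (Nat.eq_of_beq_eq_true h4)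
  · rw [Bool.or_eq_true, Nat.beq_eq, List.contains_iff_mem] at h2
    rcases h2 with rfl | h2
    · exact Or.inl F.emb.one
    · exact Or.inr (F.z_conj a h2)

theorem A1_ea : Cfsg.IsElementaryAbelian 2 F.A1 :=
  ⟨.of_setLike_mul_comm fun _ hx _ hy => (F.A1_mem hx).2.1 _ hy, fun x hx => by
    rw [pow_two]; exact (F.A1_mem hx).1⟩

theorem card_A1 : Nat.card F.A1 = 16 := by
  rw [F.emb.card_subset F.A1 F.A1_le inA1 fun a ha => F.emb.f_mem_sub ha]
  exact A1_count.1

theorem A1_le_cent {a : G} (ha : a ∈ F.A1) : F.A1 ≤ centralizer ({a} : Set G) := fun _ hx =>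
  mem_centralizer_singleton_iff.2 ((F.A1_mem hx).2.1 _ ha)

theorem A1_norm_Kf {a : G} (ha : a ∈ F.A1) : F.A1 ≤ normalizer (Kf a : Set G) :=
  (F.A1_le_cent ha).trans (ClosedAbelian.core_normalized _)

theorem z_mem : f 256 ∈ F.A1 := (F.emb.f_mem_sub (by omega)).2 A1_count.2.1

theorem z_sq : f 256 * f 256 = 1 := (F.A1_mem F.z_mem).1

theorem z_ne : f 256 ≠ 1 := fun e => absurd ((F.emb.eq_one_iff (by omega)).1 e) (by omega)

theorem cz_odd : ¬ 2 ∣ F.emb.range.relIndex (centralizer ({f 256} : Set G)) := fun h =>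
  F.odd (h.trans (relIndex_dvd_index_of_le F.emb.range_le_cz))

/-- A 2-subgroup of the centraliser of the central involution moves into the image inside it. -/
theorem conj_cz {P : Subgroup G} (hP : IsPGroup 2 P) (hPC : P ≤ centralizer ({f 256} : Set G)) :
    ∃ c ∈ centralizer ({f 256} : Set G), ∀ x ∈ P, c * x * c⁻¹ ∈ F.emb.range :=
  conj_into F.emb.isPGroup F.emb.range_le_cz F.cz_odd hP hPC

/-- An involution of the image is in one of the two lists. -/
theorem invol_cases {a : ℕ} (ha : a < 512) (h2 : mulN a a = 0) (h0 : a ≠ 0) : a ∈ zList ∨ a ∈ bList := by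
  have h := allB_spec invol_check ha
  rw [show sqB a = true by rw [sqB, Nat.beq_eq]; exact h2, Bool.not_true, Bool.false_or] at h
  simp only [Bool.or_eq_true, Nat.beq_eq, List.contains_iff_mem] at h
  tauto

theorem z_label {a : ℕ} (ha : a < 512) {g : G} (e : g * f 256 * g⁻¹ = f a) : a ∈ zList := by
  have h2 : f a * f a = 1 := by
    rw [← e, show g * f 256 * g⁻¹ * (g * f 256 * g⁻¹) = g * (f 256 * f 256) * g⁻¹ by group, F.z_sq]
    group
  have h0 : a ≠ 0 := fun h => F.z_ne (conj_eq_one_iff.1 (e.trans (by rw [h, F.emb.one])))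
  exact (F.invol_cases ha ((F.emb.sq_one_iff ha).1 h2) h0).resolve_right fun hb => F.b_ne a hb g e

theorem card_A1_cent {l : ℕ} (hl : l < 512) :
    Nat.card ↥(F.A1 ⊓ centralizer ({f l} : Set G)) = a1Count l := by
  refine F.emb.card_subset _ (inf_le_left.trans F.A1_le) _ fun a ha => ?_
  rw [mem_inf, A1, F.emb.f_mem_sub ha, mem_centralizer_singleton_iff, F.emb.commute_iff ha hl, Bool.and_eq_true,
    commB, Nat.beq_eq]

end Fused

end Cfsg.Agent.HSType
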