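import Cfsg.Agent.Lib.HSType.CoreSec

/-!
The core vanishes: otherwise the normaliser of the completion is strongly embedded, and its involutions do not
commute.
-/

set_option autoImplicit false
set_option linter.style.haveILetI false
set_option linter.unusedSectionVars false

namespace Cfsg.Agent.HSType

open Subgroup
open Cfsg.Agent.ClosedAbelian (TwoEl core)
open Cfsg.Agent.J2Core (conj_mem_normalizer)

universe u

variable {G : Type u} [Group G] [Finite G] {f : ℕ → G}

theorem noncomm_pair : allB (fun b => !zList.contains b || commB 2 b) 512 = false := by decide +kernel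

namespace Fused

variable (F : Fused f) (Cn : Cent f)
include F Cn

/-- The centraliser of every involution of the normaliser is in it. -/
theorem cent_le_M {t : G} (ht : t ∈ F.M) (ht2 : orderOf t = 2) : centralizer ({t} : Set G) ≤ F.M := by
  have hR := F.range_le_M Cn
  have htt : t * t = 1 := by
    have h : t ^ 2 = 1 := by rw [← ht2]; exact pow_orderOf_eq_one t
    rwa [pow_two] at h
  obtain ⟨c, hc, hcle⟩ := conj_into F.emb.isPGroup hR
    (fun h => F.odd (h.trans (relIndex_dvd_index_of_le hR)))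
    (ClosedAbelian.twoEl_of_sq htt).isPGroup (zpowers_le.2 ht)
  obtain ⟨l, hl, el⟩ := hcle t (mem_zpowers _)
  have hl2 : mulN l l = 0 := (F.emb.sq_one_iff hl).1 (by
    rw [el, show c * t * c⁻¹ * (c * t * c⁻¹) = c * (t * t) * c⁻¹ by group, htt]; group)
  have hl0 : l ≠ 0 := fun h => Invol.ne_one ht2 (conj_eq_one_iff.1 (el.symm.trans (by rw [h, F.emb.one])))
  intro g hg
  have hgt := mem_centralizer_singleton_iff.1 hg
  rcases F.invol_cases hl hl2 hl0 with hz | hb
  · obtain ⟨h, hh⟩ := F.z_conj l hz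
    refine F.mem_of_moved Cn ht ⟨c⁻¹ * h, ?_⟩ (by rw [hgt, mul_inv_cancel_right]; exact ht)
    rw [show c⁻¹ * h * f 256 * (c⁻¹ * h)⁻¹ = c⁻¹ * (h * f 256 * h⁻¹) * c by group, hh, el]
    group
  · obtain ⟨k, hk, ek⟩ := F.b_conj l hb
    have hkM : k ∈ F.M := sup_le (F.cz_le Cn) (F.normalizer_A_le Cn) hk
    have hm : k * c ∈ F.M := mul_mem hkM hc
    have h14 : k * c * t * (k * c)⁻¹ = f 14 := by
      rw [show k * c * t * (k * c)⁻¹ = k * (c * t * c⁻¹) * k⁻¹ by group, ← el, ek]
    have h1 : k * c * g * (k * c)⁻¹ ∈ F.M := F.c14_le Cn (mem_centralizer_singleton_iff.2 (by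
      rw [← h14]; exact comm_conj _ hgt))
    rw [show g = (k * c)⁻¹ * (k * c * g * (k * c)⁻¹) * (k * c) by group]
    exact mul_mem (mul_mem (inv_mem hm) h1) hm

/-- The core of the centraliser of the central involution is trivial. -/
theorem core_eq_bot : Kz f = ⊥ := by
  haveI : Fact (Nat.Prime 2) := ⟨Nat.prime_two⟩
  haveI := F.simple
  by_contra hK
  obtain ⟨hodd, -, -⟩ := F.Wst_props Cn
  have hKW : Kf (f 256) ≤ F.Wst := F.Kf_le_Wst F.z_mem F.z_ne
  have hR := F.range_le_M Cn
  have hM : F.M ≠ ⊤ := by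
    intro h
    rcases IsSimpleGroup.eq_bot_or_eq_top_of_normal F.Wst (normalizer_eq_top_iff.1 h) with e | e
    · exact hK (le_bot_iff.1 (e ▸ hKW))
    · refine hodd ?_
      rw [e, card_top]
      exact dvd_trans (by norm_num) (F.emb.card_range ▸ Subgroup.card_subgroup_dvd_card F.emb.range)
  set T := (F.emb.isPGroup.comap_subtype (K := F.M)).toSylow
    (fun h => F.odd (h.trans (relIndex_dvd_index_of_le hR))) with hTdef
  have hT : (T : Subgroup F.M).map F.M.subtype = F.emb.range := by
    show (F.emb.range.subgroupOf F.M).map F.M.subtype = _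
    rw [map_subgroupOf_eq_of_le hR]
  have hse := Invol.se_of_centralizers hM T
    (by
      rw [even_iff_two_dvd]
      refine dvd_trans ?_ (card_dvd_of_le hR)
      rw [F.emb.card_range]; norm_num)
    (by
      rw [hT]
      intro g hg
      exact F.mem_of_moved Cn (hR (F.emb.apply_mem (show 256 < 512 by omega))) ⟨1, by group⟩
        (hR (conj_mem_normalizer hg (F.emb.apply_mem (by omega)))))
    (fun t ht ht2 => F.cent_le_M Cn ht ht2)
  have hcore : F.M.normalCore = ⊥ :=
    (IsSimpleGroup.eq_bot_or_eq_top_of_normal _ inferInstance).resolve_right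
      fun e => hM (top_le_iff.1 (e ▸ normalCore_le F.M))
  have ord : ∀ l, l ∈ zList → orderOf (f l) = 2 := fun l hl => by
    obtain ⟨h512, hsq, h0⟩ := list_facts (Or.inl hl)
    exact orderOf_eq_prime (by rw [pow_two]; exact (F.emb.sq_one_iff h512).2 hsq)
      fun e => h0 ((F.emb.eq_one_iff h512).1 e)
  have h256 : (256 : ℕ) ∈ zList := by decide
  have h16 : (16 : ℕ) ∈ zList := by decide
  have h2 : (2 : ℕ) ∈ zList := by decide
  obtain ⟨hcomm, -⟩ := SEMain.stmt G F.M hse hcore
    (SEMain.HasPair.exists_four ⟨f 256, f 16, hR (F.emb.apply_mem (by omega)), hR (F.emb.apply_mem (by omega)),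
      ord 256 h256, ord 16 h16, fun e => absurd (F.emb.inj 256 16 (by omega) (by omega) e) (by omega),
      (F.A1_mem F.z_mem).2.1 _ ((F.emb.f_mem_sub (by omega)).2 A1_count.2.2.1)⟩)
  obtain ⟨b, hb, hb'⟩ := allB_not noncomm_pair
  simp only [Bool.or_eq_false_iff, Bool.not_eq_false'] at hb'
  have h1 := hcomm (f 2) (f b) (hR (F.emb.apply_mem (by omega))) (hR (F.emb.apply_mem hb)) (ord 2 h2)
    (ord b (List.contains_iff_mem.1 hb'.1))
  rw [F.emb.commute_iff (show 2 < 512 by omega) hb] at h1
  have h2' : commB 2 b = true := (Nat.beq_eq ..).symm ▸ h1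
  rw [hb'.2] at h2'
  exact Bool.false_ne_true h2'

end Fused

/-- **(K): the core vanishes.** -/
theorem coreStmt : CoreStmt.{u} := fun _ _ _ _ F Cn => F.core_eq_bot Cn

end Cfsg.Agent.HSType
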