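import Cfsg.Agent.Lib.HSType.CoreBal
import Cfsg.Agent.S0111
import Cfsg.Agent.Lib.SEMain.Proof
import Cfsg.Agent.Lib.Involutions.StronglyEmbedded
import Cfsg.Agent.Lib.Transfer.Fusion

/-!
The centraliser of the representative of the second class normalises the completion: modulo the involution and
the odd core it has a subgroup of index two avoiding the involutions with both lifts in the second class, and
the normaliser would be strongly embedded in it.
-/

set_option autoImplicit false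
set_option linter.style.haveILetI false
set_option linter.unusedSectionVars false

namespace Cfsg.Agent.HSType

open Subgroup
open Cfsg.Agent.ClosedAbelian (TwoEl core odd_orderOf_of_mem)
open Cfsg.Agent.J2Core (odd_of_le conj_mem_normalizer normalizer_inf_le)

universe u

/-- A label with a lift fused to `z`. -/
def goodB (l : ℕ) : Bool := zList.contains l || zList.contains (mulN l 14)

/-- The labels of the maximal subgroup generated by the good involutions of the centraliser of `14`. -/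
def inQ (l : ℕ) : Bool :=
  [0, 7, 10, 14, 16, 23, 26, 30, 128, 135, 138, 142, 144, 151, 154, 158, 256, 263, 266, 270, 272, 279, 282, 286,
    384, 391, 394, 398, 400, 407, 410, 414].contains l

/-- A label is trivial modulo `14`. -/
def triv (l : ℕ) : Bool := Nat.beq l 0 || Nat.beq l 14

theorem subQ : subB inQ = true := by decide +kernel

theorem T_table : allB (fun l => !commB l 14 ||
    ((!triv (mulN l l) || triv l || (sqB l && (goodB l ||
      !allB (fun s => !commB s 14 || !triv (mulN (invN l) (cj s 45))) 512))) &&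
    (inQ l != inQ (mulN l 45)))) 512 = true := by
  decide +kernel

theorem Q_table : allB (fun l => !inQ l ||
    (commB l 14 && (!triv (mulN l l) || triv l || goodB l))) 512 = true := by
  decide +kernel

theorem sec_facts : mulN 45 45 = 0 ∧ commB 45 14 = true ∧ inQ 45 = false ∧ inQ 14 = true ∧ triv 45 = false ∧
    bList.contains 45 = true ∧ bList.contains (mulN 45 14) = true ∧ mulN 14 14 = 0 ∧ bList.contains 14 = true := by
  decide +kernel

theorem word_facts : triv (mulN (invN (mulN (mulN 7 44) (mulN 60 60))) 45) = true ∧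
    triv (mulN (invN (mulN 7 16)) 23) = true ∧ triv (mulN (invN (mulN 61 61)) 256) = true ∧
    commB 7 14 = true ∧ commB 16 14 = true ∧ commB 23 14 = true ∧ commB 44 14 = true ∧ commB 60 14 = true ∧
    commB 61 14 = true ∧ commB 410 14 = true ∧ commB 256 14 = true ∧
    triv (mulN (invN (cj 44 7)) 410) = true ∧
    triv (cm 7 410) = false ∧ triv (cm 16 44) = false ∧ triv (cm 23 44) = false ∧
    mulN 7 7 = 0 ∧ mulN 16 16 = 0 ∧ mulN 23 23 = 0 ∧ triv 7 = false ∧ triv 16 = false ∧ triv 23 = false ∧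
    triv 256 = false ∧ zList.contains 256 = true ∧
    triv (mulN (invN 256) 7) = false ∧ triv (mulN (invN 256) 16) = false ∧ triv (mulN (invN 256) 23) = false := by
  decide +kernel

/-- An element of a 2-group lies in a normal subgroup of odd index. -/
theorem mem_of_twoEl {X : Type u} [Group X] [Finite X] {N H : Subgroup X} (hn : H ≤ normalizer (N : Set X))
    (hodd : Odd (N.relIndex H)) {x : X} (hx : x ∈ H) (h2 : TwoEl x) : x ∈ N := by
  haveI := normal_subgroupOf_of_le_normalizer hn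
  have h1 : QuotientGroup.mk' (N.subgroupOf H) ⟨x, hx⟩ = 1 := by
    refine TwoEl.eq_one_of_odd ?_ (hodd.of_dvd_nat (orderOf_dvd_natCard _))
    obtain ⟨k, hk⟩ := h2
    exact ⟨k, by rw [← map_pow, show (⟨x, hx⟩ : ↥H) ^ 2 ^ k = 1 from Subtype.ext hk, map_one]⟩
  rw [QuotientGroup.mk'_apply, QuotientGroup.eq_one_iff, mem_subgroupOf] at h1
  exact h1

variable {G : Type u} [Group G] [Finite G] {f : ℕ → G}

namespace Fused

variable (F : Fused f)
include F

/-- The image meets the centraliser of `14` in a Sylow 2-subgroup. -/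
theorem c14_odd : ¬ 2 ∣ F.emb.range.relIndex (centralizer ({f 14} : Set G)) := by
  haveI : Fact (Nat.Prime 2) := ⟨Nat.prime_two⟩
  set C := centralizer ({f 14} : Set G)
  set T := F.emb.range ⊓ C
  obtain ⟨R, hR⟩ := ((F.emb.isPGroup.to_le (inf_le_left : T ≤ _)).comap_subtype (K := C)).exists_le_sylow
  have h14 : f 14 ∈ C := mem_centralizer_singleton_iff.2 rfl
  set R' := (R : Subgroup ↥C).map C.subtype
  have hTR : T ≤ R' := fun x hx => ⟨⟨x, hx.2⟩, hR (mem_subgroupOf.2 hx), rfl⟩
  obtain ⟨c, -, hc⟩ := conj_into F.emb.isPGroup le_top (by rw [relIndex_top_right]; exact F.odd)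
    (R.2.map C.subtype) le_top
  obtain ⟨-, -, -, -, -, -, -, h1414, hb14⟩ := sec_facts
  obtain ⟨l, hl, el⟩ := hc (f 14) (hTR (mem_inf.2 ⟨F.emb.apply_mem (by omega), h14⟩))
  have hl2 : mulN l l = 0 := (F.emb.sq_one_iff hl).1 (by
    rw [el, show c * f 14 * c⁻¹ * (c * f 14 * c⁻¹) = c * (f 14 * f 14) * c⁻¹ by group,
      (F.emb.sq_one_iff (by omega)).2 h1414]; group)
  have hl0 : l ≠ 0 := fun h => by
    rw [h, F.emb.one] at el
    exact absurd ((F.emb.eq_one_iff (by omega)).1 (conj_eq_one_iff.1 el.symm)) (by omega)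
  have hlb : l ∈ bList := (F.invol_cases hl hl2 hl0).resolve_left fun h => by
    obtain ⟨g, hg⟩ := F.z_conj l h
    refine F.b_ne 14 (List.contains_iff_mem.1 hb14) (c⁻¹ * g) ?_
    rw [show c⁻¹ * g * f 256 * (c⁻¹ * g)⁻¹ = c⁻¹ * (g * f 256 * g⁻¹) * c by group, hg, el]
    group
  have hle : R'.map (MulAut.conj c).toMonoidHom ≤ F.emb.range ⊓ centralizer ({f l} : Set G) := by
    refine le_inf ?_ ?_
    · rintro _ ⟨x, hx, rfl⟩
      exact hc x hx
    · rw [el, ← cent_map]
      exact map_mono (map_subtype_le _)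
  have hcard : Nat.card R' ≤ Nat.card T := by
    rw [← card_map_of_injective (K := R') (f := (MulAut.conj c).toMonoidHom) (MulAut.conj c).injective,
      show Nat.card T = 64 by rw [F.emb.card_centralizer (by omega)]; exact b_count.2]
    refine (card_le_of_le hle).trans ?_
    rw [F.emb.card_centralizer hl]
    exact Nat.le_of_ble_eq_true (List.all_eq_true.1 b_count.1 l hlb)
  have hT : T = R' := eq_of_le_of_card_ge hTR hcard
  intro h
  rw [← inf_relIndex_right, show F.emb.range ⊓ C = R' from hT, relIndex, subgroupOf,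
    comap_map_eq_self_of_injective C.subtype_injective] at h
  exact R.not_dvd_index h

variable (Cn : Cent f)
include Cn

set_option maxHeartbeats 1000000 in
/-- The centraliser of the second representative normalises the completion. -/
theorem c14_le : centralizer ({f 14} : Set G) ≤ F.M := by
  classical
  haveI : Fact (Nat.Prime 2) := ⟨Nat.prime_two⟩
  obtain ⟨h45sq, h45T, h45Q, h14Q, h45t, h45b, h45b', h1414, hb14⟩ := sec_facts
  obtain ⟨w45, w23, w256, t7, t16, t23, t44, t60, t61, t410, t256, w410, n7, n16, n23, s7, s16, s23, v7, v16,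
    v23, v256, z256, d7, d16, d23⟩ := word_facts
  set C := centralizer ({f 14} : Set G) with hCdef
  have h14C : f 14 ∈ C := mem_centralizer_singleton_iff.2 rfl
  set a : ↥C := ⟨f 14, h14C⟩ with hadef
  have ha2 : a * a = 1 := Subtype.ext ((F.emb.sq_one_iff (by omega)).2 h1414)
  have hac : ∀ y : ↥C, y * a = a * y := fun y => Subtype.ext (mem_centralizer_singleton_iff.1 y.2)
  haveI hzn : (zpowers a).Normal := ⟨fun x hx y => by
    obtain ⟨i, rfl⟩ := mem_zpowers_iff.1 hx
    rw [((show Commute y a from hac y).zpow_right i).eq, mul_inv_cancel_right]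
    exact zpow_mem (mem_zpowers a) i⟩
  set O := Cfsg.oddCore ↥C
  haveI hOn : O.Normal := FittingCores.pPrimeCore_normal (G := ↥C) 2
  set N := O ⊔ zpowers a
  set π := QuotientGroup.mk' N
  have hzp : ∀ x ∈ zpowers a, x = 1 ∨ x = a := by
    intro x hx
    obtain ⟨i, rfl⟩ := mem_zpowers_iff.1 hx
    obtain ⟨j, rfl | rfl⟩ := Int.even_or_odd' i
    · left
      rw [zpow_mul, show a ^ (2 : ℤ) = 1 by rw [zpow_two, ha2], one_zpow]
    · right
      rw [zpow_add, zpow_mul, show a ^ (2 : ℤ) = 1 by rw [zpow_two, ha2], one_zpow, one_mul, zpow_one]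
  have hker : ∀ y : ↥C, π y = 1 ↔ ∃ k ∈ Kf (f 14), (y : G) = k ∨ (y : G) = k * f 14 := by
    intro y
    rw [QuotientGroup.mk'_apply, QuotientGroup.eq_one_iff, show (N : Subgroup ↥C) = O ⊔ zpowers a from rfl,
      mem_sup_of_normal_left]
    constructor
    · rintro ⟨k, hk, x, hx, rfl⟩
      refine ⟨k, ⟨k, hk, rfl⟩, ?_⟩
      rcases hzp x hx with rfl | rfl
      exacts [Or.inl (by simp), Or.inr rfl]
    · rintro ⟨_, ⟨k, hk, rfl⟩, e | e⟩
      · exact ⟨k, hk, 1, one_mem _, Subtype.ext (by simp [e])⟩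
      · exact ⟨k, hk, a, mem_zpowers a, Subtype.ext (by simp [e, hadef])⟩
  have h14M : f 14 ∈ F.M := F.range_le_M Cn (F.emb.apply_mem (by omega))
  have hK14 : Kf (f 14) ≤ F.M := (F.Kf_cent_le Cn ((F.emb.sq_one_iff (by omega)).2 h1414)
    (by rw [F.card_A1_cent (by omega)]; exact a1_centralises.2)).trans le_normalizer
  have hlift : ∀ y y' : ↥C, π y = π y' → (y' : G) ∈ F.M → (y : G) ∈ F.M := by
    intro y y' e hy
    obtain ⟨k, hk, h⟩ := (hker (y * y'⁻¹)).1 (by rw [map_mul, map_inv, e, mul_inv_cancel])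
    have : ((y * y'⁻¹ : ↥C) : G) ∈ F.M := by
      rcases h with h | h <;> rw [h]
      exacts [hK14 hk, mul_mem (hK14 hk) h14M]
    have h' := mul_mem this hy
    simpa using h'
  -- the labels
  have hT : ∀ l, l < 512 → commB l 14 = true → f l ∈ C := fun l hl h =>
    mem_centralizer_singleton_iff.2 ((F.emb.commute_iff hl (by omega)).2 (Nat.eq_of_beq_eq_true h))
  have hTinv : ∀ l, l < 512 → f l ∈ C → commB l 14 = true := fun l hl h =>
    (Nat.beq_eq ..).symm ▸ (F.emb.commute_iff hl (by omega)).1 (mem_centralizer_singleton_iff.1 h)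
  have htriv : ∀ l (hl : l < 512) (h : f l ∈ C), π ⟨f l, h⟩ = 1 ↔ triv l = true := by
    intro l hl h
    rw [hker, triv, Bool.or_eq_true, Nat.beq_eq, Nat.beq_eq]
    constructor
    · rintro ⟨k, hk, e | e⟩
      · left
        change f l = k at e
        refine (F.emb.eq_one_iff hl).1 (TwoEl.eq_one_of_odd (F.emb.twoEl hl) ?_)
        rw [e]; exact odd_orderOf_of_mem (ClosedAbelian.core_odd _) hk
      · right
        change f l = k * f 14 at e
        have h1 : f (mulN l 14) = k := by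
          rw [F.emb.hom l 14 hl (by omega), e, mul_assoc, (F.emb.sq_one_iff (by omega)).2 h1414, mul_one]
        have h2 := TwoEl.eq_one_of_odd (F.emb.twoEl (mulN_lt l 14))
          (h1 ▸ odd_orderOf_of_mem (ClosedAbelian.core_odd _) hk)
        rw [h2] at h1
        rw [← h1, one_mul] at e
        exact F.emb.inj l 14 hl (by omega) e
    · rintro (rfl | rfl)
      · exact ⟨1, one_mem _, Or.inl F.emb.one⟩
      · exact ⟨1, one_mem _, Or.inr (by simp)⟩
  -- the map on labels
  let p : ℕ → ↥C ⧸ N := fun l => if h : f l ∈ C then π ⟨f l, h⟩ else 1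
  have hp : ∀ l (h : f l ∈ C), p l = π ⟨f l, h⟩ := fun l h => dif_pos h
  have hpmul : ∀ l m, l < 512 → m < 512 → commB l 14 = true → commB m 14 = true → p (mulN l m) = p l * p m := by
    intro l m hl hm tl tm
    have h : f (mulN l m) ∈ C := by rw [F.emb.hom l m hl hm]; exact mul_mem (hT l hl tl) (hT m hm tm)
    rw [hp _ h, hp _ (hT l hl tl), hp _ (hT m hm tm), ← map_mul]
    exact congrArg π (Subtype.ext (F.emb.hom l m hl hm))
  have hpinv : ∀ l, l < 512 → commB l 14 = true → p (invN l) = (p l)⁻¹ := by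
    intro l hl tl
    have h : f (invN l) ∈ C := by rw [F.emb.inv hl]; exact inv_mem (hT l hl tl)
    rw [hp _ h, hp _ (hT l hl tl), ← map_inv]
    exact congrArg π (Subtype.ext (F.emb.inv hl))
  have hmulT : ∀ l m, l < 512 → m < 512 → commB l 14 = true → commB m 14 = true → commB (mulN l m) 14 = true :=
    fun l m hl hm tl tm => hTinv _ (mulN_lt _ _) (by
      rw [F.emb.hom l m hl hm]; exact mul_mem (hT l hl tl) (hT m hm tm))
  have hinvT : ∀ l, l < 512 → commB l 14 = true → commB (invN l) 14 = true := fun l hl tl =>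
    hTinv _ (invN_lt _) (by rw [F.emb.inv hl]; exact inv_mem (hT l hl tl))
  have hp1 : ∀ l, l < 512 → commB l 14 = true → (p l = 1 ↔ triv l = true) := fun l hl tl => by
    rw [hp l (hT l hl tl)]; exact htriv l hl _
  have hpeq : ∀ l m, l < 512 → m < 512 → commB l 14 = true → commB m 14 = true →
      (p l = p m ↔ triv (mulN (invN l) m) = true) := fun l m hl hm tl tm => by
    rw [← hp1 _ (mulN_lt _ _) (hmulT _ _ (invN_lt _) hm (hinvT l hl tl) tm),
      hpmul _ _ (invN_lt _) hm (hinvT l hl tl) tm, hpinv l hl tl, inv_mul_eq_one]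
  have hpM : ∀ l, l < 512 → commB l 14 = true → ∀ y : ↥C, π y = p l → (y : G) ∈ F.M := fun l hl tl y e =>
    hlift y _ (e.trans (hp l (hT l hl tl))) (F.range_le_M Cn (F.emb.apply_mem hl))
  -- the image of the normaliser
  set Mb := (F.M.subgroupOf C).map π with hMb
  have hmem : ∀ y : ↥C, π y ∈ Mb ↔ (y : G) ∈ F.M := fun y =>
    ⟨fun ⟨y', hy', e⟩ => hlift y y' e.symm hy', fun h => ⟨y, h, rfl⟩⟩
  by_cases htop : Mb = ⊤
  · intro y hy
    exact (hmem ⟨y, hy⟩).1 (by rw [htop]; exact mem_top _)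
  exfalso
  -- good involutions are moved inside
  have hgood : ∀ l, l < 512 → commB l 14 = true → goodB l = true → ∀ x : ↥C ⧸ N,
      x * p l * x⁻¹ ∈ Mb → x ∈ Mb := by
    intro l hl tl hg x hx
    obtain ⟨y, rfl⟩ := QuotientGroup.mk'_surjective N x
    obtain ⟨m, hm, tm, hmz, em⟩ : ∃ m, m < 512 ∧ commB m 14 = true ∧ m ∈ zList ∧ p m = p l := by
      rw [goodB, Bool.or_eq_true, List.contains_iff_mem, List.contains_iff_mem] at hg
      rcases hg with hg | hg
      · exact ⟨l, hl, tl, hg, rfl⟩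
      · refine ⟨_, mulN_lt _ _, hmulT l 14 hl (by omega) tl (by decide +kernel), hg, ?_⟩
        rw [hpmul l 14 hl (by omega) tl (by decide +kernel), (hp1 14 (by omega) (by decide +kernel)).2 rfl,
          mul_one]
    refine (hmem y).2 (F.mem_of_moved Cn (t := f m) (F.range_le_M Cn (F.emb.apply_mem hm)) (F.z_conj m hmz) ?_)
    rw [← em, hp m (hT m hm tm), ← map_inv, ← map_mul, ← map_mul, hmem] at hx
    exact hx
  -- the Sylow subgroup
  set TT := (F.emb.range.subgroupOf C).map π with hTT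
  have hTTp : IsPGroup 2 TT := (F.emb.isPGroup.comap_subtype (K := C)).map π
  have hTTi : ¬ 2 ∣ TT.index := fun h =>
    F.c14_odd (h.trans (index_map_dvd _ (QuotientGroup.mk'_surjective N)))
  set P := hTTp.toSylow hTTi
  have hPmem : ∀ x, x ∈ (P : Subgroup (↥C ⧸ N)) ↔ ∃ l, l < 512 ∧ commB l 14 = true ∧ p l = x := by
    intro x
    rw [IsPGroup.toSylow_coe]
    constructor
    · rintro ⟨⟨_, hy⟩, ⟨l, hl, rfl⟩, rfl⟩
      exact ⟨l, hl, hTinv l hl hy, hp l hy⟩
    · rintro ⟨l, hl, tl, rfl⟩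
      exact ⟨⟨f l, hT l hl tl⟩, F.emb.apply_mem hl, (hp l _).symm⟩
  have hpP : ∀ l, l < 512 → commB l 14 = true → p l ∈ (P : Subgroup (↥C ⧸ N)) := fun l hl tl =>
    (hPmem _).2 ⟨l, hl, tl, rfl⟩
  have hPMb : (P : Subgroup (↥C ⧸ N)) ≤ Mb := by
    intro x hx
    obtain ⟨y, rfl⟩ := QuotientGroup.mk'_surjective N x
    obtain ⟨l, hl, tl, e⟩ := (hPmem _).1 hx
    exact (hmem y).2 (hpM l hl tl y e.symm)
  have hsq : ∀ l, l < 512 → commB l 14 = true → p l * p l = 1 → p l ≠ 1 →
      mulN l l = 0 ∧ (goodB l = true ∨ ∃ s, s < 512 ∧ commB s 14 = true ∧ p (cj s 45) = p l) := by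
    intro l hl tl e1 e2
    have h := allB_spec T_table hl
    rw [tl, Bool.not_true, Bool.false_or, Bool.and_eq_true] at h
    have h' := h.1
    rw [(hp1 _ (mulN_lt _ _) (hmulT l l hl hl tl tl)).1 (by rw [hpmul l l hl hl tl tl]; exact e1),
      Bool.not_true, Bool.false_or, Bool.or_eq_true, Bool.and_eq_true, Bool.or_eq_true] at h'
    obtain ⟨h1, h2⟩ := h'.resolve_left fun ht => e2 ((hp1 l hl tl).2 ht)
    refine ⟨Nat.eq_of_beq_eq_true h1, h2.imp id fun h2 => ?_⟩
    rw [Bool.not_eq_true'] at h2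
    obtain ⟨s, hs, hs'⟩ := allB_not h2
    simp only [Bool.or_eq_false_iff, Bool.not_eq_false'] at hs'
    have tc : commB (cj s 45) 14 = true :=
      hmulT _ _ (mulN_lt _ _) (invN_lt _) (hmulT s 45 hs (by omega) hs'.1 h45T) (hinvT s hs hs'.1)
    exact ⟨s, hs, hs'.1, ((hpeq l _ hl (mulN_lt _ _) tl tc).2 hs'.2).symm⟩
  set u := p 45 with hu
  have huu : u * u = 1 := by
    rw [hu, ← hpmul 45 45 (by omega) (by omega) h45T h45T, h45sq]
    exact (hp1 0 (by omega) (by decide +kernel)).2 rfl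
  have hu1 : u ≠ 1 := fun e => by
    have := (hp1 45 (by omega) h45T).1 e
    rw [h45t] at this
    exact Bool.false_ne_true this
  -- the maximal subgroup of the good involutions
  set Q := ((F.emb.sub inQ subQ).subgroupOf C).map π with hQdef
  have hQmem : ∀ l, l < 512 → commB l 14 = true → (p l ∈ Q ↔ inQ l = true) := by
    intro l hl tl
    constructor
    · rintro ⟨⟨_, hy⟩, ⟨m, hm, pm, rfl⟩, e⟩
      have tm := hTinv m hm hy
      rw [← hp m hy] at e
      have ht := (hpeq m l hm hl tm tl).1 e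
      have hin : f (mulN (invN m) l) ∈ F.emb.sub inQ subQ := by
        rw [triv, Bool.or_eq_true, Nat.beq_eq, Nat.beq_eq] at ht
        rcases ht with ht | ht <;> rw [ht]
        · rw [F.emb.one]; exact one_mem _
        · exact (F.emb.f_mem_sub (by omega)).2 h14Q
      have h2 := mul_mem (show f m ∈ F.emb.sub inQ subQ from ⟨m, hm, pm, rfl⟩) hin
      rw [F.emb.hom _ _ (invN_lt m) hl, F.emb.inv hm, mul_inv_cancel_left] at h2
      exact (F.emb.f_mem_sub hl).1 h2
    · intro h
      exact ⟨⟨f l, hT l hl tl⟩, (F.emb.f_mem_sub (p := inQ) (hp := subQ) hl).2 h, (hp l _).symm⟩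
  have hQP : Q ≤ P := by
    rintro _ ⟨⟨_, hy⟩, ⟨m, hm, -, rfl⟩, rfl⟩
    exact (hPmem _).2 ⟨m, hm, hTinv m hm hy, hp m hy⟩
  have huQ : u ∉ Q := fun h => by
    have := (hQmem 45 (by omega) h45T).1 h
    rw [h45Q] at this
    exact Bool.false_ne_true this
  have hQi : Q.relIndex (P : Subgroup (↥C ⧸ N)) = 2 := by
    rw [relIndex, Subgroup.index_eq_two_iff]
    refine ⟨⟨u, hpP 45 (by omega) h45T⟩, fun ⟨b, hb⟩ => ?_⟩
    obtain ⟨l, hl, tl, rfl⟩ := (hPmem b).1 hb
    simp only [mem_subgroupOf, Subgroup.coe_mul]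
    rw [hu, ← hpmul l 45 hl (by omega) tl h45T, hQmem _ (mulN_lt _ _) (hmulT l 45 hl (by omega) tl h45T),
      hQmem l hl tl]
    have h := allB_spec T_table hl
    rw [tl, Bool.not_true, Bool.false_or, Bool.and_eq_true] at h
    revert h
    cases inQ l <;> cases inQ (mulN l 45) <;> simp [Xor']
  -- transfer
  obtain ⟨X0, hX0n, hX0i, huX0⟩ : ∃ X0 : Subgroup (↥C ⧸ N), X0.Normal ∧ X0.index = 2 ∧ u ∉ X0 := by
    refine (Cfsg.Agent.S0111.result P Q hQP hQi u (orderOf_eq_prime (by rw [pow_two]; exact huu) hu1)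
      (hpP 45 (by omega) h45T) huQ).resolve_right ?_
    rintro ⟨x, hx⟩
    obtain ⟨g, rfl⟩ := QuotientGroup.mk'_surjective N x
    obtain ⟨l, hl, tl, el⟩ := (hPmem _).1 (hQP hx)
    have hlQ : inQ l = true := (hQmem l hl tl).1 (el ▸ hx)
    have e1 : p l * p l = 1 := by
      rw [el, show π g * u * (π g)⁻¹ * (π g * u * (π g)⁻¹) = π g * (u * u) * (π g)⁻¹ by group, huu]; group
    have e2 : p l ≠ 1 := fun e => hu1 (conj_eq_one_iff.1 (el.symm.trans e))
    have hg := allB_spec Q_table hl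
    rw [hlQ, Bool.not_true, Bool.false_or, Bool.and_eq_true,
      (hp1 _ (mulN_lt _ _) (hmulT l l hl hl tl tl)).1 (by rw [hpmul l l hl hl tl tl]; exact e1),
      Bool.not_true, Bool.false_or, Bool.or_eq_true] at hg
    have hg' := hg.2.resolve_left fun ht => e2 ((hp1 l hl tl).2 ht)
    have hl2 := (hsq l hl tl e1 e2).1
    have hy : π (g * ⟨f 45, hT 45 (by omega) h45T⟩ * g⁻¹ * ⟨f l, hT l hl tl⟩⁻¹) = 1 := by
      rw [map_mul, map_mul, map_mul, map_inv, map_inv, ← hp, ← hp, el]
      exact mul_inv_cancel _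
    obtain ⟨k, hk, hk'⟩ := (hker _).1 hy
    have hkl : ∃ m, m < 512 ∧ mulN m m = 0 ∧ goodB m = true ∧ (g : G) * f 45 * (g : G)⁻¹ = k * f m := by
      rcases hk' with e | e
      · refine ⟨l, hl, hl2, hg', ?_⟩
        simp only [Subgroup.coe_mul, Subgroup.coe_inv] at e
        rw [← e, inv_mul_cancel_right]
      · simp only [Subgroup.coe_mul, Subgroup.coe_inv] at e
        have hc : f 14 * f l = f l * f 14 := (mem_centralizer_singleton_iff.1 (hT l hl tl)).symm
        refine ⟨mulN l 14, mulN_lt _ _, ?_, ?_, ?_⟩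
        · refine (F.emb.sq_one_iff (mulN_lt _ _)).1 ?_
          rw [F.emb.hom l 14 hl (by omega), show f l * f 14 * (f l * f 14) = f l * (f 14 * f l) * f 14 by group, hc,
            show f l * (f l * f 14) * f 14 = (f l * f l) * (f 14 * f 14) by group,
            (F.emb.sq_one_iff hl).2 hl2, (F.emb.sq_one_iff (by omega)).2 h1414, one_mul]
        · rw [goodB, show mulN (mulN l 14) 14 = l from F.emb.inj _ _ (mulN_lt _ _) hl (by
            rw [F.emb.hom _ _ (mulN_lt _ _) (by omega), F.emb.hom _ _ hl (by omega), mul_assoc,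
              (F.emb.sq_one_iff (by omega)).2 h1414, mul_one]), Bool.or_comm]
          exact hg'
        · rw [F.emb.hom l 14 hl (by omega), ← hc, ← mul_assoc, ← e, inv_mul_cancel_right]
    obtain ⟨m, hm, hm2, hmg, em⟩ := hkl
    have h45' : f 45 * f 45 = 1 := (F.emb.sq_one_iff (by omega)).2 h45sq
    obtain ⟨s, hs, es⟩ := invol_shift (ClosedAbelian.core_odd _) ((F.emb.sq_one_iff hm).2 hm2) hk (by
      rw [← em, show (g : G) * f 45 * (g : G)⁻¹ * ((g : G) * f 45 * (g : G)⁻¹) =
        (g : G) * (f 45 * f 45) * (g : G)⁻¹ by group, h45']; group)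
    set c := s⁻¹ * (g : G)
    have hc45 : c * f 45 * c⁻¹ = f m := by
      rw [show c * f 45 * c⁻¹ = s⁻¹ * ((g : G) * f 45 * (g : G)⁻¹) * s by simp [c, mul_assoc], em, ← es]; group
    have hc14 : c * f 14 = f 14 * c :=
      ((show Commute s (f 14) from mem_centralizer_singleton_iff.1 (ClosedAbelian.core_le _ hs)).inv_left.mul_left
        (mem_centralizer_singleton_iff.1 g.2)).eq
    rw [goodB, Bool.or_eq_true, List.contains_iff_mem, List.contains_iff_mem] at hmg
    rcases hmg with hz | hz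
    · obtain ⟨h, hh⟩ := F.z_conj m hz
      refine F.b_ne 45 (List.contains_iff_mem.1 h45b) (c⁻¹ * h) ?_
      rw [show c⁻¹ * h * f 256 * (c⁻¹ * h)⁻¹ = c⁻¹ * (h * f 256 * h⁻¹) * c by group, hh, ← hc45]; group
    · obtain ⟨h, hh⟩ := F.z_conj _ hz
      refine F.b_ne _ (List.contains_iff_mem.1 h45b') (c⁻¹ * h) ?_
      rw [show c⁻¹ * h * f 256 * (c⁻¹ * h)⁻¹ = c⁻¹ * (h * f 256 * h⁻¹) * c by group, hh,
        F.emb.hom m 14 hm (by omega), F.emb.hom 45 14 (by omega) (by omega), ← hc45,
        show c⁻¹ * (c * f 45 * c⁻¹ * f 14) * c = f 45 * (c⁻¹ * (f 14 * c)) by group, ← hc14]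
      group
  have hmul2 := @Subgroup.mul_mem_iff_of_index_two _ _ X0 hX0i
  -- conjugating into the Sylow subgroup inside the image of the normaliser
  have hto : ∀ t ∈ Mb, t * t = 1 → t ≠ 1 → t ∈ X0 → ∃ c ∈ Mb, ∃ l, l < 512 ∧ commB l 14 = true ∧
      goodB l = true ∧ c * t * c⁻¹ = p l := by
    intro t htM ht ht1 htX
    obtain ⟨c, hc, hcle⟩ := conj_into P.2 hPMb (fun h => P.not_dvd_index
      (h.trans (relIndex_dvd_index_of_le hPMb))) (ClosedAbelian.twoEl_of_sq ht).isPGroup (zpowers_le.2 htM)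
    obtain ⟨l, hl, tl, el⟩ := (hPmem _).1 (hcle t (mem_zpowers _))
    refine ⟨c, hc, l, hl, tl, ?_, el.symm⟩
    have e1 : p l * p l = 1 := by
      rw [el, show c * t * c⁻¹ * (c * t * c⁻¹) = c * (t * t) * c⁻¹ by group, ht]; group
    have e2 : p l ≠ 1 := fun e => ht1 (conj_eq_one_iff.1 (el.symm.trans e))
    refine (hsq l hl tl e1 e2).2.resolve_right ?_
    rintro ⟨s, hs, ts, es⟩
    refine huX0 ?_
    have hlX : p l ∈ X0 := el ▸ hX0n.conj_mem t htX c
    rw [← es, show cj s 45 = mulN (mulN s 45) (invN s) from rfl,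
      hpmul _ _ (mulN_lt _ _) (invN_lt _) (hmulT s 45 hs (by omega) ts h45T) (hinvT s hs ts),
      hpmul s 45 hs (by omega) ts h45T, hpinv s hs ts] at hlX
    have := hX0n.conj_mem _ hlX (p s)⁻¹
    rwa [show (p s)⁻¹ * (p s * u * (p s)⁻¹) * (p s)⁻¹⁻¹ = u by group] at this
  set H0 := Mb.subgroupOf X0 with hH0
  have hne : H0 ≠ ⊤ := by
    intro h
    rw [hH0, subgroupOf_eq_top] at h
    refine htop (eq_top_iff.2 fun x _ => ?_)
    by_cases hx : x ∈ X0
    · exact h hx
    · have hxu : x * u ∈ X0 := hmul2.2 (iff_of_false hx huX0)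
      have := mul_mem (h hxu) (inv_mem (hPMb (hpP 45 (by omega) h45T)))
      rwa [mul_inv_cancel_right] at this
  -- parities
  have hsqX : ∀ x, x * x ∈ X0 := fun x => hmul2.2 Iff.rfl
  have hz0 : p 256 ∈ X0 := by
    rw [← (hpeq _ 256 (mulN_lt _ _) (by omega) (hmulT _ _ (by omega) (by omega) t61 t61) t256).2 w256,
      hpmul _ _ (by omega) (by omega) t61 t61]
    exact hsqX _
  have hu45 : p 7 * p 44 ∈ X0 → False := by
    intro h
    refine huX0 ?_
    have t6060 := hmulT _ _ (show 60 < 512 by omega) (show 60 < 512 by omega) t60 t60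
    have t744 := hmulT _ _ (show 7 < 512 by omega) (show 44 < 512 by omega) t7 t44
    rw [hu, ← (hpeq _ 45 (mulN_lt _ _) (by omega) (hmulT _ _ (mulN_lt _ _) (mulN_lt _ _) t744 t6060) h45T).2 w45,
      hpmul _ _ (mulN_lt _ _) (mulN_lt _ _) t744 t6060, hpmul 7 44 (by omega) (by omega) t7 t44,
      hpmul 60 60 (by omega) (by omega) t60 t60]
    exact mul_mem h (hsqX _)
  -- the witnesses
  obtain ⟨xl, yl, hxl, hyl, txl, tyl, hxX, hyX, hx2, hx1, hxy, hxz⟩ : ∃ xl yl, xl < 512 ∧ yl < 512 ∧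
      commB xl 14 = true ∧ commB yl 14 = true ∧ p xl ∈ X0 ∧ p yl ∈ X0 ∧ mulN xl xl = 0 ∧ triv xl = false ∧
      triv (cm xl yl) = false ∧ triv (mulN (invN 256) xl) = false := by
    by_cases h7 : p 7 ∈ X0
    · refine ⟨7, 410, by omega, by omega, t7, t410, h7, ?_, s7, v7, n7, d7⟩
      have tcj : commB (cj 44 7) 14 = true := hmulT _ _ (mulN_lt _ _) (invN_lt _)
        (hmulT _ _ (by omega) (by omega) t44 t7) (hinvT 44 (by omega) t44)
      rw [← (hpeq _ 410 (mulN_lt _ _) (by omega) tcj t410).2 w410,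
        hpmul _ _ (mulN_lt _ _) (invN_lt _) (hmulT _ _ (by omega) (by omega) t44 t7) (hinvT 44 (by omega) t44),
        hpmul 44 7 (by omega) (by omega) t44 t7, hpinv 44 (by omega) t44]
      exact hX0n.conj_mem _ h7 _
    · have h44 : p 44 ∈ X0 := by
        by_contra h44
        exact hu45 (hmul2.2 (iff_of_false h7 h44))
      by_cases h16 : p 16 ∈ X0
      · exact ⟨16, 44, by omega, by omega, t16, t44, h16, h44, s16, v16, n16, d16⟩
      · refine ⟨23, 44, by omega, by omega, t23, t44, ?_, h44, s23, v23, n23, d23⟩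
        rw [← (hpeq _ 23 (mulN_lt _ _) (by omega) (hmulT _ _ (by omega) (by omega) t7 t16) t23).2 w23,
          hpmul 7 16 (by omega) (by omega) t7 t16]
        exact hmul2.2 (iff_of_false h7 h16)
  have hone : p 0 = 1 := (hp1 0 (by omega) (by decide +kernel)).2 rfl
  set zz : ↥X0 := ⟨p 256, hz0⟩ with hzz
  set xx : ↥X0 := ⟨p xl, hxX⟩ with hxx
  set yy : ↥X0 := ⟨p yl, hyX⟩ with hyy
  have hzH : zz ∈ H0 := hPMb (hpP 256 (by omega) t256)
  have hxH : xx ∈ H0 := hPMb (hpP xl hxl txl)
  have hyH : yy ∈ H0 := hPMb (hpP yl hyl tyl)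
  have ne1 : ∀ l, l < 512 → commB l 14 = true → triv l = false → p l ≠ 1 := fun l hl tl hv e => by
    have := (hp1 l hl tl).1 e
    rw [hv] at this
    exact Bool.false_ne_true this
  have ord2 : ∀ l (hl : l < 512) (tl : commB l 14 = true) (hlX : p l ∈ X0), mulN l l = 0 → triv l = false →
      orderOf (⟨p l, hlX⟩ : ↥X0) = 2 := fun l hl tl hlX h2 hv => by
    refine orderOf_eq_prime ?_ fun e => ne1 l hl tl hv (congrArg Subtype.val e)
    rw [pow_two]
    refine Subtype.ext ?_
    show p l * p l = 1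
    rw [← hpmul l l hl hl tl tl, h2, hone]
  have hzo : orderOf zz = 2 :=
    ord2 256 (by omega) t256 hz0 (list_facts (Or.inl (List.contains_iff_mem.1 z256))).2.1 v256
  have hxo : orderOf xx = 2 := ord2 xl hxl txl hxX hx2 hx1
  -- strongly embedded
  obtain ⟨T, hT0⟩ := ((P.2.comap_of_injective X0.subtype X0.subtype_injective).comap_of_injective H0.subtype
    H0.subtype_injective).exists_le_sylow
  have hzT : (⟨zz, hzH⟩ : ↥H0) ∈ (T : Subgroup ↥H0) := hT0 (hpP 256 (by omega) t256)
  have hmoved : ∀ t : ↥X0, t ∈ H0 → orderOf t = 2 → ∀ g : ↥X0, g * t * g⁻¹ ∈ H0 → g ∈ H0 := by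
    intro t htH ht g hg
    have ht2 : (t : ↥C ⧸ N) * t = 1 := by
      have h : t ^ 2 = 1 := by rw [← ht]; exact pow_orderOf_eq_one t
      rw [pow_two] at h
      exact congrArg Subtype.val h
    have ht1 : (t : ↥C ⧸ N) ≠ 1 := fun e => Invol.ne_one ht (Subtype.ext e)
    obtain ⟨c, hc, l, hl, tl, hlg, el⟩ := hto t htH ht2 ht1 t.2
    have h1 := hgood l hl tl hlg ((g : ↥C ⧸ N) * c⁻¹) (by
      rw [← el, show (g : ↥C ⧸ N) * c⁻¹ * (c * t * c⁻¹) * ((g : ↥C ⧸ N) * c⁻¹)⁻¹ = g * t * (g : ↥C ⧸ N)⁻¹ by group]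
      exact hg)
    have := mul_mem h1 hc
    rwa [inv_mul_cancel_right] at this
  have hse := Invol.se_of_centralizers hne T (Invol.even_of_invol_mem hzo hzH)
    (fun g hg => hmoved zz hzH hzo g (by
      obtain ⟨⟨w, hw⟩, -, e⟩ := conj_mem_normalizer hg (mem_map_of_mem H0.subtype hzT)
      exact (show w = g * zz * g⁻¹ from e) ▸ hw))
    (fun t htH ht g hg => hmoved t htH ht g (by
      rw [mem_centralizer_singleton_iff.1 hg, mul_inv_cancel_right]; exact htH))
  -- no normal core
  have hOX : Cfsg.oddCore (↥C ⧸ N) = ⊥ := by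
    set L := (Cfsg.oddCore (↥C ⧸ N)).comap π with hL
    haveI : (Cfsg.oddCore (↥C ⧸ N)).Normal := FittingCores.pPrimeCore_normal (G := ↥C ⧸ N) 2
    haveI hLn : L.Normal := Subgroup.Normal.comap inferInstance π
    have htwo : ∀ t ∈ L, TwoEl t → t = 1 ∨ t = a := by
      intro t ht h2
      have h1 : π t = 1 := by
        refine TwoEl.eq_one_of_odd ?_ ?_
        · obtain ⟨k, hk⟩ := h2
          exact ⟨k, by rw [← map_pow, hk, map_one]⟩
        · exact Nat.coprime_two_right.1 ((PBasic.coprime_card_iff _).1 (PBasic.pPrimeCore_coprime 2 (↥C ⧸ N)) _ ht)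
      rw [QuotientGroup.mk'_apply, QuotientGroup.eq_one_iff, show (N : Subgroup ↥C) = O ⊔ zpowers a from rfl,
        mem_sup_of_normal_left] at h1
      obtain ⟨k, hk, x, hx, rfl⟩ := h1
      have hko : Odd (orderOf k) :=
        Nat.coprime_two_right.1 ((PBasic.coprime_card_iff _).1 (PBasic.pPrimeCore_coprime 2 ↥C) _ hk)
      have hk1 : k = 1 := by
        obtain ⟨j, hj⟩ := h2
        refine TwoEl.eq_one_of_odd ⟨j + 1, ?_⟩ hko
        rcases hzp x hx with rfl | rfl
        · rw [mul_one] at hj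
          rw [pow_succ, pow_mul, hj, one_pow]
        · have h3 := congrArg (fun y => y ^ 2) hj
          simp only [one_pow] at h3
          rwa [← pow_mul, ← pow_succ, (show Commute k a from hac k).mul_pow, pow_succ' 2 j, pow_mul a,
            show a ^ 2 = 1 by rw [pow_two, ha2], one_pow, mul_one, ← pow_succ'] at h3
      rcases hzp x hx with rfl | rfl <;> simp [hk1]
    obtain ⟨R, hR⟩ := (IsPGroup.of_bot (p := 2) (G := ↥L)).exists_le_sylow
    have hnpc := Fusion.hasNormalPComplement_of_normalizer_le_centralizer (p := 2) R fun x _ =>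
      mem_centralizer_iff.2 fun y hy => by
        refine Subtype.ext ?_
        obtain ⟨k, hk⟩ := R.2 ⟨y, hy⟩
        rcases htwo (y : ↥C) y.2 ⟨k, by
            have := congrArg Subtype.val (congrArg Subtype.val hk)
            simpa using this⟩ with e | e
        · simp [e]
        · simp only [Subgroup.coe_mul, e]
          exact (hac _).symm
    have hoddL : ∀ x ∈ L, Odd (orderOf x) → x ∈ O := by
      intro x hx ho
      have hres : (⟨x, hx⟩ : ↥L) ∈ Cfsg.pResidual 2 _ :=
        PBasic.mem_pResidual (by rw [orderOf_mk]; exact Nat.coprime_two_right.2 ho)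
      have hc : x ∈ core L := ⟨⟨x, hx⟩, PBasic.le_pPrimeCore (PBasic.pResidual_normal_inst 2 _)
        ((PBasic.coprime_card_iff _).2 fun y hy => (PBasic.mem_pResidual_iff hnpc).1 hy) hres, rfl⟩
      haveI : (core L).Normal := normalizer_eq_top_iff.1 (top_le_iff.1
        ((normalizer_eq_top_iff.2 hLn).ge.trans (ClosedAbelian.normalizer_le_normalizer_core L)))
      exact PBasic.le_pPrimeCore (p := 2) inferInstance
        (Nat.coprime_comm.1 (Nat.prime_two.coprime_iff_not_dvd.2 (ClosedAbelian.core_odd L))) hc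
    rw [eq_bot_iff]
    intro x hx
    obtain ⟨y, rfl⟩ := QuotientGroup.mk'_surjective N x
    obtain ⟨v, w, e, hv, hw, hv2, hwo⟩ := ClosedAbelian.exists_parts y
    have hyL : y ∈ L := hx
    rw [mem_bot, QuotientGroup.mk'_apply, QuotientGroup.eq_one_iff, ← e]
    refine mul_mem ?_ (mem_sup_left (hoddL w (zpowers_le.2 hyL hw) hwo))
    rcases htwo v (zpowers_le.2 hyL hv) hv2 with rfl | rfl
    exacts [one_mem _, mem_sup_right (mem_zpowers _)]
  have hcore : H0.normalCore = ⊥ := by
    have hK2 : ¬ 2 ∣ Nat.card H0.normalCore := by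
      intro h
      obtain ⟨t, ht, ht2⟩ := Invol.exists_invol (even_iff_two_dvd.2 h)
      refine hne (eq_top_iff.2 fun g _ => ?_)
      exact Invol.se_mem_of_conj hse ht2 (normalCore_le _ ht)
        (normalCore_le _ ((normalCore_normal H0).conj_mem t ht g))
    set K := H0.normalCore.map X0.subtype
    have hKX : K ≤ X0 := map_subtype_le _
    have hKc : K ≤ core X0 := ClosedAbelian.le_core hKX (by
        have h := le_normalizer_map (H := H0.normalCore) X0.subtype
        rw [normalizer_eq_top_iff.2 (normalCore_normal H0), ← MonoidHom.range_eq_map, X0.range_subtype] at h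
        exact h)
      (by rwa [card_map_of_injective X0.subtype_injective])
    haveI : (core X0).Normal := normalizer_eq_top_iff.1 (top_le_iff.1
      ((normalizer_eq_top_iff.2 hX0n).ge.trans (ClosedAbelian.normalizer_le_normalizer_core X0)))
    have hb : core X0 ≤ ⊥ := hOX ▸ PBasic.le_pPrimeCore (p := 2) inferInstance
      (Nat.coprime_comm.1 (Nat.prime_two.coprime_iff_not_dvd.2 (ClosedAbelian.core_odd X0)))
    exact (map_eq_bot_iff_of_injective _ X0.subtype_injective).1 (le_bot_iff.1 (hKc.trans hb))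
  have hzx : zz * xx = xx * zz := Subtype.ext (by
    show p 256 * p xl = p xl * p 256
    rw [← hpmul _ _ (by omega) hxl t256 txl, ← hpmul _ _ hxl (by omega) txl t256]
    exact congrArg p (Nat.eq_of_beq_eq_true (allB_spec z_center.1 hxl)).symm)
  have hzxne : zz ≠ xx := fun e => by
    have := (hpeq 256 xl (by omega) hxl t256 txl).1 (congrArg Subtype.val e)
    rw [hxz] at this
    exact Bool.false_ne_true this
  obtain ⟨-, hodd⟩ := SEMain.stmt _ H0 hse hcore
    (SEMain.HasPair.exists_four ⟨zz, xx, hzH, hxH, hzo, hxo, hzxne, hzx⟩)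
  -- the witness is centralised
  have hnorm : H0 ≤ normalizer (SERegular.invCent H0 : Set ↥X0) := by
    intro g hg
    refine SEBrick.mem_normalizer_of fun w hw => ?_
    obtain ⟨hwH, hwC⟩ := mem_inf.1 hw
    refine mem_inf.2 ⟨mul_mem (mul_mem hg hwH) (inv_mem hg), mem_centralizer_iff.2 ?_⟩
    rintro t ⟨ht, htH⟩
    have h1 := mem_centralizer_iff.1 hwC (g⁻¹ * t * g⁻¹⁻¹)
      ⟨(Invol.order_conj g⁻¹ t).trans ht, mul_mem (mul_mem (inv_mem hg) htH) (inv_mem (inv_mem hg))⟩
    have h2 := comm_conj g h1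
    rwa [show g * (g⁻¹ * t * g⁻¹⁻¹) * g⁻¹ = t by group] at h2
  have hy2 : TwoEl yy := by
    obtain ⟨j, hj⟩ := TwoEl.of_group P.2 (hpP yl hyl tyl)
    exact ⟨j, Subtype.ext hj⟩
  have hcomm := mem_centralizer_iff.1 (mem_inf.1 (mem_of_twoEl hnorm hodd hyH hy2)).2 xx ⟨hxo, hxH⟩
  have h1 : p xl * p yl = p yl * p xl := congrArg Subtype.val hcomm
  have hcm : p (cm xl yl) = 1 := by
    rw [cm, hpmul _ _ (mulN_lt _ _) (invN_lt _) (hmulT xl yl hxl hyl txl tyl)
      (hinvT _ (mulN_lt _ _) (hmulT yl xl hyl hxl tyl txl)), hpinv _ (mulN_lt _ _) (hmulT yl xl hyl hxl tyl txl),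
      hpmul xl yl hxl hyl txl tyl, hpmul yl xl hyl hxl tyl txl, h1, mul_inv_cancel]
  have := (hp1 _ (mulN_lt _ _) (hmulT _ _ (mulN_lt _ _) (invN_lt _) (hmulT xl yl hxl hyl txl tyl)
    (hinvT _ (mulN_lt _ _) (hmulT yl xl hyl hxl tyl txl)))).1 hcm
  rw [cm] at hxy
  rw [hxy] at this
  exact Bool.false_ne_true this

end Fused

end Cfsg.Agent.HSType
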