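import Mathlib.GroupTheory.Sylow
import Mathlib.Tactic.Group
import Cfsg.Agent.Lib.HSType.Table

/-!
A labelling of a subgroup of a group by the table of a Sylow 2-subgroup of the Higman–Sims group.
-/

set_option autoImplicit false

namespace Cfsg.Agent.HSType

/-- Inverses and the neutral label. -/
theorem group_check (a : ℕ) (ha : a < 512) :
    mulN (invN a) a = 0 ∧ mulN a (invN a) = 0 ∧ mulN a 0 = a ∧ mulN 0 a = a := by
  have h : allB (fun a => Nat.beq (mulN (invN a) a) 0 && Nat.beq (mulN a (invN a)) 0 && Nat.beq (mulN a 0) a &&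
      Nat.beq (mulN 0 a) a) 512 = true := by decide +kernel
  have h1 := allB_spec h ha
  simp only [Bool.and_eq_true, Nat.beq_eq] at h1
  exact ⟨h1.1.1.1, h1.1.1.2, h1.1.2, h1.2⟩

theorem invN_lt (a : ℕ) : invN a < 512 := Nat.mod_lt _ (by omega)

theorem mulN_lt (a b : ℕ) : mulN a b < 512 := by
  have h1 : ∀ x, x % 64 < 64 := fun x => Nat.mod_lt _ (by omega)
  have h2 : ∀ x, x % 8 < 8 := fun x => Nat.mod_lt _ (by omega)
  show (byteN qT _ % 64) * 8 + byteN hT _ % 8 < 512
  have := h1 (byteN qT (Nat.add (Nat.mul 64 (Nat.mod (Nat.div a 8) 64))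
    (byteN aT (Nat.add (Nat.mul 64 (Nat.mod a 8)) (Nat.div b 8)))))
  have := h2 (byteN hT (Nat.add (Nat.mul 8 (Nat.mod a 8)) (Nat.mod b 8)))
  omega

/-- A faithful copy of the table inside a group. -/
structure Emb {G : Type*} [Group G] (f : ℕ → G) : Prop where
  hom : ∀ a b, a < 512 → b < 512 → f (mulN a b) = f a * f b
  inj : ∀ a b, a < 512 → b < 512 → f a = f b → a = b

variable {G : Type*} [Group G] {f : ℕ → G}

namespace Emb

variable (E : Emb f)
include E

theorem one : f 0 = 1 := by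
  have h := E.hom 0 0 (by omega) (by omega)
  rw [(group_check 0 (by omega)).2.2.1] at h
  exact mul_left_cancel (h.symm.trans (mul_one _).symm)

theorem inv {a : ℕ} (ha : a < 512) : f (invN a) = (f a)⁻¹ := by
  have h := E.hom _ _ (invN_lt a) ha
  rw [(group_check a ha).1, E.one] at h
  exact eq_inv_of_mul_eq_one_left h.symm

theorem conj {s x : ℕ} (hs : s < 512) (hx : x < 512) : f (cj s x) = f s * f x * (f s)⁻¹ := by
  rw [cj, E.hom _ _ (mulN_lt _ _) (invN_lt _), E.hom _ _ hs hx, E.inv hs]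

theorem comm {a b : ℕ} (ha : a < 512) (hb : b < 512) : f (cm a b) = f a * f b * (f a)⁻¹ * (f b)⁻¹ := by
  rw [cm, E.hom _ _ (mulN_lt _ _) (invN_lt _), E.hom _ _ ha hb, E.inv (mulN_lt _ _), E.hom _ _ hb ha]
  group

theorem commute_iff {a b : ℕ} (ha : a < 512) (hb : b < 512) :
    f a * f b = f b * f a ↔ mulN a b = mulN b a := by
  rw [← E.hom a b ha hb, ← E.hom b a hb ha]
  exact ⟨E.inj _ _ (mulN_lt _ _) (mulN_lt _ _), congrArg f⟩

theorem eq_one_iff {a : ℕ} (ha : a < 512) : f a = 1 ↔ a = 0 := by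
  rw [← E.one]
  exact ⟨E.inj a 0 ha (by omega), congrArg f⟩

theorem sq_one_iff {a : ℕ} (ha : a < 512) : f a * f a = 1 ↔ mulN a a = 0 := by
  rw [← E.hom a a ha ha]
  exact E.eq_one_iff (mulN_lt _ _)

/-- The image. -/
def range : Subgroup G where
  carrier := {g | ∃ a, a < 512 ∧ f a = g}
  one_mem' := ⟨0, by omega, E.one⟩
  mul_mem' := by
    rintro _ _ ⟨a, ha, rfl⟩ ⟨b, hb, rfl⟩
    exact ⟨mulN a b, mulN_lt _ _, E.hom a b ha hb⟩
  inv_mem' := by
    rintro _ ⟨a, ha, rfl⟩
    exact ⟨invN a, invN_lt _, E.inv ha⟩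

theorem mem_range {g : G} : g ∈ E.range ↔ ∃ a, a < 512 ∧ f a = g := Iff.rfl

theorem apply_mem {a : ℕ} (ha : a < 512) : f a ∈ E.range := ⟨a, ha, rfl⟩

theorem card_range : Nat.card E.range = 512 := by
  classical
  rw [← Nat.card_fin 512]
  refine (Nat.card_congr (Equiv.ofBijective (fun a : Fin 512 => (⟨f a, E.apply_mem a.2⟩ : E.range)) ⟨?_, ?_⟩)).symm
  · intro a b h
    exact Fin.ext (E.inj _ _ a.2 b.2 (congrArg Subtype.val h))
  · rintro ⟨g, a, ha, rfl⟩
    exact ⟨⟨a, ha⟩, rfl⟩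

/-- A set of labels cut out of the image by a predicate has as many elements as labels. -/
theorem card_subset (P : Subgroup G) (hP : P ≤ E.range) (p : ℕ → Bool)
    (h : ∀ a, a < 512 → (f a ∈ P ↔ p a = true)) : Nat.card P = (List.range 512).countP p := by
  classical
  have e : (List.range 512).countP p = ((Finset.range 512).filter fun a => p a = true).card := by
    rw [List.countP_eq_length_filter, Finset.card_def, Finset.filter_val, Finset.range_val,
      Multiset.range, Multiset.filter_coe, Multiset.coe_card]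
    simp
  rw [e, ← Nat.card_eq_finsetCard]
  refine (Nat.card_congr (Equiv.ofBijective (fun a : ((Finset.range 512).filter fun a => p a = true) =>
    (⟨f a.1, (h a.1 (Finset.mem_range.1 (Finset.mem_filter.1 a.2).1)).2 (Finset.mem_filter.1 a.2).2⟩ : P)) ⟨?_, ?_⟩)).symm
  · intro a b hab
    exact Subtype.ext (E.inj _ _ (Finset.mem_range.1 (Finset.mem_filter.1 a.2).1)
      (Finset.mem_range.1 (Finset.mem_filter.1 b.2).1) (congrArg Subtype.val hab))
  · rintro ⟨g, hg⟩
    obtain ⟨a, ha, rfl⟩ := hP hg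
    exact ⟨⟨a, Finset.mem_filter.2 ⟨Finset.mem_range.2 ha, (h a ha).1 hg⟩⟩, rfl⟩

theorem card_centralizer {x : ℕ} (hx : x < 512) :
    Nat.card ↥(E.range ⊓ Subgroup.centralizer ({f x} : Set G)) = centCount x := by
  refine E.card_subset _ inf_le_left _ fun a ha => ?_
  rw [Subgroup.mem_inf, Subgroup.mem_centralizer_singleton_iff, commB, Nat.beq_eq, ← E.commute_iff ha hx]
  exact ⟨fun h => h.2, fun h => ⟨E.apply_mem ha, h⟩⟩

/-- Transport along an injective homomorphism. -/
theorem map {H : Type*} [Group H] (φ : G →* H) (hφ : ∀ a, a < 512 → φ (f a) = 1 → f a = 1) :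
    Emb fun a => φ (f a) where
  hom a b ha hb := by simp only [E.hom a b ha hb, map_mul]
  inj a b ha hb h := by
    have h1 : φ (f (mulN (invN a) b)) = 1 := by
      rw [E.hom _ _ (invN_lt a) hb, E.inv ha, map_mul, map_inv, h, inv_mul_cancel]
    have h2 := hφ _ (mulN_lt _ _) h1
    rw [E.hom _ _ (invN_lt a) hb, E.inv ha, inv_mul_eq_one] at h2
    exact E.inj a b ha hb h2

end Emb

end Cfsg.Agent.HSType
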