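import Cfsg.Prelude.Def_Spor_Conway
import Cfsg.Agent.Lib.HSType.Embed
import Cfsg.Agent.Lib.ClosedAbelian.Basic
import Mathlib.GroupTheory.Perm.Fin

/-!
The interfaces of the recognition of the Higman–Sims group by its Sylow 2-subgroup: fusion, the centraliser of the
central involution modulo its odd core, the vanishing of that core, and the final step.

Named labels: `256` the central involution `z`; `128` a generator of the centre of `R`; `16`, `64` involutions of
`V = Ω₁(A)`; `3`, `6` involutions of `R` outside `A`; `2` an involution outside `R` fused to `z`; `10`, `14`, `35`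
representatives of the second class.
-/

set_option autoImplicit false

namespace Cfsg.Agent.HSType

open Subgroup
open Cfsg.Agent.ClosedAbelian (core)

universe u

/-- The labels of the abelian subgroup of order 64. -/
def inA (a : ℕ) : Bool := Nat.beq (Nat.mod a 8) 0

/-- The labels of the involutions of `A`, with the neutral one. -/
def inV (a : ℕ) : Bool := inA a && sqB a

/-- The labels of the central product of order 64. -/
def inR (a : ℕ) : Bool :=
  [0, 3, 5, 6].contains (Nat.mod a 8) && [0, 2].contains (Nat.mod (Nat.div a 8) 8)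

/-- The labels of its centre. -/
def inZR (a : ℕ) : Bool := [0, 128, 256, 384].contains a

/-- The labels of the involutions fused to the central one. -/
def zList : List ℕ :=
  [256, 16, 272, 64, 80, 320, 336, 6, 22, 198, 214, 262, 278, 454, 470,
   3, 5, 67, 85, 147, 149, 197, 211, 259, 261, 323, 341, 403, 405, 453, 467,
   2, 7, 18, 23, 79, 95, 138, 154, 258, 263, 274, 279, 335, 351, 394, 410]

/-- The labels of the involutions not fused to the central one. -/
def bList : List ℕ :=
  [14, 30, 206, 222, 270, 286, 462, 478,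
   35, 45, 99, 125, 179, 189, 237, 243, 291, 301, 355, 381, 435, 445, 493, 499,
   10, 26, 130, 135, 146, 151, 207, 223, 266, 282, 386, 391, 402, 407, 463, 479]

theorem invol_check : allB (fun a => !sqB a || Nat.beq a 0 || zList.contains a || bList.contains a) 512 = true := by
  decide +kernel

/-- A list of labels below 512 that is closed under products and inverses. -/
def subB (p : ℕ → Bool) : Bool :=
  p 0 && allB (fun a => !p a || (p (invN a) && allB (fun b => !p b || p (mulN a b)) 512)) 512

variable {G : Type u} [Group G] {f : ℕ → G}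

/-- The subgroup of the image cut out by a closed set of labels. -/
def Emb.sub (E : Emb f) (p : ℕ → Bool) (hp : subB p = true) : Subgroup G where
  carrier := {g | ∃ a, a < 512 ∧ p a = true ∧ f a = g}
  one_mem' := ⟨0, by omega, ((Bool.and_eq_true _ _).mp hp).1, E.one⟩
  mul_mem' := by
    rintro _ _ ⟨a, ha, pa, rfl⟩ ⟨b, hb, pb, rfl⟩
    have h := allB_spec ((Bool.and_eq_true _ _).mp hp).2 ha
    rw [pa, Bool.not_true, Bool.false_or, Bool.and_eq_true] at h
    have h' := allB_spec h.2 hb
    rw [pb, Bool.not_true, Bool.false_or] at h'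
    exact ⟨mulN a b, mulN_lt _ _, h', E.hom a b ha hb⟩
  inv_mem' := by
    rintro _ ⟨a, ha, pa, rfl⟩
    have h := allB_spec ((Bool.and_eq_true _ _).mp hp).2 ha
    rw [pa, Bool.not_true, Bool.false_or, Bool.and_eq_true] at h
    exact ⟨invN a, invN_lt _, h.1, E.inv ha⟩

theorem subA : subB inA = true := by decide +kernel

theorem subV : subB inV = true := by decide +kernel

theorem subR : subB inR = true := by decide +kernel

theorem subZR : subB inZR = true := by decide +kernel

/-- A finite simple group with the table as Sylow 2-subgroup. -/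
structure Setup (f : ℕ → G) : Prop where
  emb : Emb f
  odd : ¬ 2 ∣ emb.range.index
  simple : IsSimpleGroup G

/-- The odd core of the centraliser of the central involution. -/
def Kz (f : ℕ → G) : Subgroup G := core (centralizer ({f 256} : Set G))

/-- The fusion, the labelling being normalised so that `2` is fused to the central involution. -/
structure Fused (f : ℕ → G) : Prop extends Setup f where
  z_conj : ∀ a ∈ zList, ∃ g : G, g * f 256 * g⁻¹ = f a
  b_ne : ∀ a ∈ bList, ∀ g : G, g * f 256 * g⁻¹ ≠ f a
  b_conj : ∀ a ∈ bList, ∃ g ∈ centralizer ({f 256} : Set G) ⊔ normalizer ((emb.sub inA subA : Subgroup G) : Set G),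
    g * f a * g⁻¹ = f 14
  point : ∃ n ∈ normalizer ((emb.sub inA subA : Subgroup G) : Set G), n * f 256 = f 256 * n ∧ n * f 16 * n⁻¹ = f 64
  line : ∃ n ∈ normalizer ((emb.sub inA subA : Subgroup G) : Set G), n * f 256 * n⁻¹ = f 16 ∧
    (n * f 16 * n⁻¹ = f 256 ∨ n * f 16 * n⁻¹ = f 272)
  mover : ∃ g : G, g * f 256 = f 256 * g ∧ g * f 3 * g⁻¹ = f 16

/-- The centraliser of the central involution modulo its odd core. -/
structure Cent (f : ℕ → G) : Prop where
  emb : Emb f
  normR : ∀ g ∈ centralizer ({f 256} : Set G), ∀ r ∈ emb.sub inR subR, g * r * g⁻¹ ∈ Kz f ⊔ emb.sub inR subR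
  normZR : ∀ g ∈ centralizer ({f 256} : Set G), g * f 128 * g⁻¹ ∈ Kz f ⊔ emb.sub inZR subZR
  perm : ∃ φ : ↥(centralizer ({f 256} : Set G)) →* Equiv.Perm (Fin 5), Function.Surjective φ ∧
    φ.ker = (Kz f ⊔ emb.sub inR subR).subgroupOf (centralizer ({f 256} : Set G))
  fpf : ∀ x ∈ centralizer ({f 256} : Set G), Odd (orderOf x) → x ∉ Kz f →
    ∀ r ∈ emb.sub inR subR, x * r * x⁻¹ * r⁻¹ ∈ Kz f → r ∈ emb.sub inZR subZR
  gen : centralizer ({f 256} : Set G) ≤ Kz f ⊔ (centralizer ({f 256} : Set G) ⊓ centralizer ({f 16} : Set G)) ⊔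
    (centralizer ({f 256} : Set G) ⊓ centralizer ({f 6} : Set G)) ⊔
    (centralizer ({f 256} : Set G) ⊓ centralizer ({f 2} : Set G))

/-- (F): fusion. -/
def FusStmt : Prop :=
  ∀ (G : Type u) [Group G] [Finite G] (f : ℕ → G), Setup f → ∃ f' : ℕ → G, Fused f'

/-- (C): the centraliser. -/
def CentStmt : Prop := ∀ (G : Type u) [Group G] [Finite G] (f : ℕ → G), Fused f → Cent f

/-- (K): the core vanishes. -/
def CoreStmt : Prop := ∀ (G : Type u) [Group G] [Finite G] (f : ℕ → G), Fused f → Cent f → Kz f = ⊥

/-- (E): the last step. -/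
def FinStmt : Prop :=
  ∀ (G : Type u) [Group G] [Finite G] (f : ℕ → G), Fused f → Cent f → Kz f = ⊥ → Cfsg.Spor.IsoHS G

end Cfsg.Agent.HSType
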