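import Cfsg.Agent.Lib.HSUniq.Interface
import Cfsg.Agent.Lib.HSUniq.ModelHS
import Cfsg.Agent.Lib.HSType.Embed

/-!
The table is a Sylow 2-subgroup of the Higman–Sims group, hence embeds into every group with such a Sylow 2-subgroup.
-/

set_option autoImplicit false
set_option maxRecDepth 20000
set_option linter.style.haveILetI false

namespace Cfsg.Agent.HSType

open Cfsg.Agent.HSUniq Cfsg.Agent.PermCert
open Cfsg.Agent.PermAut (Fwd)

/-- The permutation of a label. -/
noncomputable def f100 (a : ℕ) : Equiv.Perm (Fin 100) :=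
  eH Img.vP Img.gP Img.sP Img.wP Img.yP (toC a)

/-- The module label of a sum. -/
def qN (q q' : ℕ) : ℕ := Nat.mod (byteN qT (Nat.add (Nat.mul 64 (Nat.mod q 64)) q')) 64

/-- The module label of an image under the complement. -/
def aN (k q : ℕ) : ℕ := byteN aT (Nat.add (Nat.mul 64 k) q)

/-- The label of a product in the complement. -/
def hN (k k' : ℕ) : ℕ := Nat.mod (byteN hT (Nat.add (Nat.mul 8 k) k')) 8

theorem mulN_eq (a b : ℕ) : mulN a b = qN (a / 8) (aN (a % 8) (b / 8)) * 8 + hN (a % 8) (b % 8) := rfl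

theorem toC_lt : allB (fun a => Nat.blt (toC a) 7680) 512 = true := by decide +kernel

theorem split_check : allB (fun a => Nat.beq (mulC (toC (a / 8 * 8)) (toC (a % 8))) (toC a)) 512 = true := by
  decide +kernel

theorem act_check : allB (fun i => Nat.blt (aN (i / 64) (i % 64)) 64 &&
    Nat.beq (mulC (toC (i / 64)) (toC (i % 64 * 8))) (mulC (toC (aN (i / 64) (i % 64) * 8)) (toC (i / 64)))) 512 =
    true := by decide +kernel

theorem add_check : allB (fun i => Nat.beq (mulC (toC (i / 64 * 8)) (toC (i % 64 * 8)))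
    (toC (qN (i / 64) (i % 64) * 8))) 4096 = true := by decide +kernel

theorem h_check : allB (fun i => Nat.beq (mulC (toC (i / 8)) (toC (i % 8))) (toC (hN (i / 8) (i % 8)))) 64 = true := by
  decide +kernel

theorem f100_hom' {a b c : ℕ} (ha : a < 512) (hb : b < 512) (h : mulC (toC a) (toC b) = c) :
    f100 a * f100 b = eH Img.vP Img.gP Img.sP Img.wP Img.yP c := by
  rw [← h]
  exact (Img.hrel.rules.hom _ _ (Nat.blt_eq.mp (allB_spec toC_lt ha)) (Nat.blt_eq.mp (allB_spec toC_lt hb))).symm

theorem f100_split {q k : ℕ} (hq : q < 64) (hk : k < 8) : f100 (q * 8) * f100 k = f100 (q * 8 + k) := by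
  have h := Nat.eq_of_beq_eq_true (allB_spec split_check (show q * 8 + k < 512 by omega))
  rw [show (q * 8 + k) / 8 = q by omega, show (q * 8 + k) % 8 = k by omega] at h
  exact f100_hom' (by omega) (by omega) h

theorem f100_mul {a b : ℕ} (ha : a < 512) (hb : b < 512) : f100 (mulN a b) = f100 a * f100 b := by
  obtain ⟨q, k, hq, hk, rfl⟩ : ∃ q k, q < 64 ∧ k < 8 ∧ a = q * 8 + k :=
    ⟨a / 8, a % 8, by omega, by omega, by omega⟩
  obtain ⟨q', k', hq', hk', rfl⟩ : ∃ q k, q < 64 ∧ k < 8 ∧ b = q * 8 + k :=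
    ⟨b / 8, b % 8, by omega, by omega, by omega⟩
  rw [mulN_eq, show (q * 8 + k) / 8 = q by omega, show (q * 8 + k) % 8 = k by omega,
    show (q' * 8 + k') / 8 = q' by omega, show (q' * 8 + k') % 8 = k' by omega]
  have hA := allB_spec act_check (show k * 64 + q' < 512 by omega)
  rw [show (k * 64 + q') / 64 = k by omega, show (k * 64 + q') % 64 = q' by omega, Bool.and_eq_true] at hA
  obtain ⟨hA, hA'⟩ := hA
  set A := aN k q' with hAdef
  have hA64 : A < 64 := Nat.blt_eq.mp hA
  have hs := Nat.eq_of_beq_eq_true (allB_spec add_check (show q * 64 + A < 4096 by omega))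
  rw [show (q * 64 + A) / 64 = q by omega, show (q * 64 + A) % 64 = A by omega] at hs
  have hh := Nat.eq_of_beq_eq_true (allB_spec h_check (show k * 8 + k' < 64 by omega))
  rw [show (k * 8 + k') / 8 = k by omega, show (k * 8 + k') % 8 = k' by omega] at hh
  have e1 : f100 k * f100 (q' * 8) = f100 (A * 8) * f100 k :=
    (f100_hom' (by omega) (by omega) (Nat.eq_of_beq_eq_true hA')).trans
      (f100_hom' (by omega) (by omega) rfl).symm
  have e2 : f100 (q * 8) * f100 (A * 8) = f100 (qN q A * 8) := f100_hom' (by omega) (by omega) hs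
  have e3 : f100 k * f100 k' = f100 (hN k k') := f100_hom' (by omega) (by omega) hh
  rw [← f100_split hq hk, ← f100_split hq' hk', ← f100_split (show qN q A < 64 from Nat.mod_lt _ (by omega))
    (show hN k k' < 8 from Nat.mod_lt _ (by omega))]
  rw [show f100 (q * 8) * f100 k * (f100 (q' * 8) * f100 k') =
    f100 (q * 8) * (f100 k * f100 (q' * 8)) * f100 k' by group, e1, ← mul_assoc, e2, mul_assoc, e3]

theorem code_check : allB (fun a => Nat.beq a 0 ||
    (List.range 100).any (fun i => !Nat.beq (get 7 (Img.eHE (toC a)) i) i)) 512 = true := by decide +kernel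

theorem f100_one {a : ℕ} (ha : a < 512) (h : f100 a = 1) : a = 0 := by
  have hc := allB_spec code_check ha
  simp only [Bool.or_eq_true, Nat.beq_eq, List.any_eq_true, List.mem_range, Bool.not_eq_true'] at hc
  rcases hc with e | ⟨i, hi, hne⟩
  · exact e
  · exfalso
    have h1 := Img.fwd_eH (toC a) ⟨i, hi⟩
    rw [show eH Img.vP Img.gP Img.sP Img.wP Img.yP (toC a) = 1 from h] at h1
    simp only [Equiv.Perm.one_apply] at h1
    rw [h1, Nat.beq_refl] at hne
    exact Bool.noConfusion hne

theorem cancel_check : allB (fun a => allB (fun q => !Nat.beq (qN (invN a / 8) (aN (invN a % 8) q)) 0 ||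
    Nat.beq q (a / 8)) 64 && allB (fun k => !Nat.beq (hN (invN a % 8) k) 0 || Nat.beq k (a % 8)) 8) 512 = true := by
  decide +kernel

theorem eq_of_mulN_inv {a b : ℕ} (ha : a < 512) (hb : b < 512) (e : mulN (invN a) b = 0) : a = b := by
  have h := allB_spec cancel_check ha
  rw [Bool.and_eq_true] at h
  have h1 := allB_spec h.1 (show b / 8 < 64 by omega)
  have h2 := allB_spec h.2 (show b % 8 < 8 by omega)
  rw [mulN_eq] at e
  have e1 : qN (invN a / 8) (aN (invN a % 8) (b / 8)) = 0 := by omega
  have e2 : hN (invN a % 8) (b % 8) = 0 := by omega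
  rw [e1] at h1
  rw [e2] at h2
  simp at h1 h2
  omega

theorem f100_zero : f100 0 = 1 := by
  have h := f100_mul (show 0 < 512 by omega) (show 0 < 512 by omega)
  rw [(group_check 0 (by omega)).2.2.1] at h
  exact mul_left_cancel (h.symm.trans (mul_one _).symm)

theorem emb100 : Emb f100 where
  hom a b ha hb := f100_mul ha hb
  inj a b ha hb h := by
    have h0 : f100 (mulN (invN a) b) = 1 := by
      rw [f100_mul (invN_lt a) hb, ← h, ← f100_mul (invN_lt a) ha, (group_check a ha).1, f100_zero]
    have e := f100_one (mulN_lt _ _) h0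
    exact eq_of_mulN_inv ha hb e

theorem f100_mem (a : ℕ) : f100 a ∈ genGroup 7 100 SporPerm.hsGens := by
  obtain ⟨mv, mg, ms, mw, my⟩ := Img.elts_mem
  have mM : ∀ c, emM Img.vP Img.gP Img.sP Img.wP c ∈ genGroup 7 100 SporPerm.hsGens := fun c => by
    unfold emM mvec sig frob
    split <;> repeat' first | apply mul_mem | apply pow_mem | apply inv_mem | assumption
  refine mul_mem ?_ (mM _)
  unfold xRep
  split
  · exact one_mem _
  · exact mul_mem (mM _) my

/-- A group with a Sylow 2-subgroup of Higman–Sims type contains the table. -/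
theorem exists_emb {G : Type*} [Group G] [Finite G] (S : Sylow 2 G) (P : Sylow 2 ↥Cfsg.Spor.HS)
    (hS : Nonempty (↥(S : Subgroup G) ≃* ↥(P : Subgroup ↥Cfsg.Spor.HS))) :
    ∃ f : ℕ → G, ∃ E : Emb f, E.range = (S : Subgroup G) := by
  classical
  haveI : Fact (Nat.Prime 2) := ⟨Nat.prime_two⟩
  obtain ⟨e0⟩ := SporPerm.hs_equiv
  have hcard : Nat.card ↥Cfsg.Spor.HS = 44352000 := Leech.isHS_spor.2
  haveI : Finite ↥Cfsg.Spor.HS := Nat.finite_of_card_ne_zero (by rw [hcard]; norm_num)
  let fH : ℕ → ↥Cfsg.Spor.HS := fun a => e0.symm ⟨f100 a, f100_mem a⟩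
  have EH : Emb fH :=
    { hom := fun a b ha hb => by
        simp only [fH, ← map_mul]
        exact congrArg e0.symm (Subtype.ext (f100_mul ha hb))
      inj := fun a b ha hb h => emb100.inj a b ha hb (congrArg Subtype.val (e0.symm.injective h)) }
  have hodd : ¬ 2 ∣ EH.range.index := by
    have h := EH.range.card_mul_index
    rw [EH.card_range, hcard] at h
    omega
  let Q : Sylow 2 ↥Cfsg.Spor.HS := (IsPGroup.of_card (n := 9) (by rw [EH.card_range]; norm_num)).toSylow hodd
  have hQ : (Q : Subgroup ↥Cfsg.Spor.HS) = EH.range := IsPGroup.toSylow_coe _ _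
  let e : ↥(S : Subgroup G) ≃* ↥EH.range := (hS.some.trans (Sylow.equiv P Q)).trans (MulEquiv.subgroupCongr hQ)
  let f : ℕ → G := fun a => if h : a < 512 then (e.symm ⟨fH a, EH.apply_mem h⟩ : G) else 1
  have hf : ∀ a (h : a < 512), f a = (e.symm ⟨fH a, EH.apply_mem h⟩ : G) := fun a h => dif_pos h
  have E : Emb f :=
    { hom := fun a b ha hb => by
        rw [hf _ (mulN_lt _ _), hf a ha, hf b hb, ← Subgroup.coe_mul, ← map_mul]
        exact congrArg (fun x => (e.symm x : G)) (Subtype.ext (EH.hom a b ha hb))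
      inj := fun a b ha hb h => by
        rw [hf a ha, hf b hb] at h
        exact EH.inj a b ha hb (congrArg Subtype.val (e.symm.injective (Subtype.ext h))) }
  refine ⟨f, E, Subgroup.eq_of_le_of_card_ge ?_ ?_⟩
  · rintro _ ⟨a, ha, rfl⟩
    rw [hf a ha]
    exact (e.symm _).2
  · rw [E.card_range, Nat.card_congr e.toEquiv, EH.card_range]

end Cfsg.Agent.HSType
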